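import Groth.Agent.H48.LocImm.Hom
import Mathlib.AlgebraicGeometry.Morphisms.Flat
import Mathlib.AlgebraicGeometry.Morphisms.SurjectiveOnStalks
import Mathlib.AlgebraicGeometry.Morphisms.Preimmersion
import Mathlib.AlgebraicGeometry.Morphisms.UniversallyOpen

/-! Localizing morphisms of schemes. -/

set_option autoImplicit false
universe u

open CategoryTheory AlgebraicGeometry TopologicalSpace Opposite

namespace Groth.Agent.H48.LocImm

open _root_.LocImm

variable {X Y Z : Scheme.{u}}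

theorem isLocHom_res_basicOpen {U : X.Opens} (hU : IsAffineOpen U) (a : Γ(X, U)) :
    IsLocHom (X.presheaf.map (homOfLE (X.basicOpen_le a)).op).hom := by
  have := hU.isLocalization_basicOpen a
  exact isLocHom_algebraMap (Submonoid.powers a)

theorem isLocHom_appLE_congr (f : X ⟶ Y) {U U' : Y.Opens} {V V' : X.Opens} (e : V ≤ f ⁻¹ᵁ U)
    (hU : U = U') (hV : V = V') (h : IsLocHom (f.appLE U V e).hom) (e' : V' ≤ f ⁻¹ᵁ U') :
    IsLocHom (f.appLE U' V' e').hom := by
  subst hU hV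
  exact h

/-- Shrinking the source to a basic open keeps the localizing property. -/
theorem isLocHom_appLE_basicOpen (f : X ⟶ Y) (U : Y.Opens) {V : X.Opens} (hV : IsAffineOpen V)
    (e : V ≤ f ⁻¹ᵁ U) (h : IsLocHom (f.appLE U V e).hom) (b : Γ(X, V)) :
    IsLocHom (f.appLE U (X.basicOpen b) ((X.basicOpen_le b).trans e)).hom := by
  rw [← Scheme.Hom.appLE_map f e (homOfLE (X.basicOpen_le b)).op, CommRingCat.hom_comp]
  exact isLocHom_comp h (isLocHom_res_basicOpen hV b)

/-- Shrinking the target to a basic open keeps the localizing property. -/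
theorem isLocHom_appLE_target (f : X ⟶ Y) {U : Y.Opens} (hU : IsAffineOpen U) {V : X.Opens}
    (hV : IsAffineOpen V) (e : V ≤ f ⁻¹ᵁ U) (h : IsLocHom (f.appLE U V e).hom) (a : Γ(Y, U)) :
    IsLocHom (f.appLE (Y.basicOpen a) (X.basicOpen (f.appLE U V e a))
      ((Scheme.basicOpen_appLE f V U e a).trans_le inf_le_right)).hom := by
  refine isLocHom_of_comp (isLocHom_res_basicOpen hU a) ?_
  rw [← CommRingCat.hom_comp, Scheme.Hom.map_appLE]
  exact isLocHom_appLE_basicOpen f U hV e h (f.appLE U V e a)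

/-- A localizing morphism has localizing charts with arbitrarily small source, and target inside any
given neighbourhood of the image point. -/
theorem exists_chart {f : X ⟶ Y} (hf : IsLocalizing f) (x : X) {V₀ : X.Opens} (hx : x ∈ V₀)
    {U₀ : Y.Opens} (hU₀ : f x ∈ U₀) :
    ∃ (U : Y.affineOpens) (V : X.affineOpens) (e : V.1 ≤ f ⁻¹ᵁ U.1),
      x ∈ V.1 ∧ V.1 ≤ V₀ ∧ U.1 ≤ U₀ ∧ IsLocHom (f.appLE U V e).hom := by
  obtain ⟨U, V, hxV, e, h⟩ := hf x
  obtain ⟨a, ha, hfa⟩ := U.2.exists_basicOpen_le ⟨f x, hU₀⟩ (e hxV)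
  have hxV' : x ∈ X.basicOpen (f.appLE U V e a) := by
    rw [Scheme.basicOpen_appLE]
    exact ⟨hxV, hfa⟩
  obtain ⟨b, hb, hxb⟩ := (V.2.basicOpen (f.appLE U V e a)).exists_basicOpen_le ⟨x, hx⟩ hxV'
  exact ⟨⟨_, U.2.basicOpen a⟩, ⟨_, (V.2.basicOpen (f.appLE U V e a)).basicOpen b⟩, _, hxb, hb, ha,
    isLocHom_appLE_basicOpen f _ (V.2.basicOpen (f.appLE U V e a)) _
      (isLocHom_appLE_target f U.2 V.2 e h a) b⟩

theorem isLocalizing_of_isOpenImmersion (f : X ⟶ Y) [IsOpenImmersion f] : IsLocalizing f := by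
  intro x
  obtain ⟨V, hV, hxV, -⟩ := exists_isAffineOpen_mem_and_subset (show x ∈ (⊤ : X.Opens) from trivial)
  refine ⟨⟨f ''ᵁ V, hV.image_of_isOpenImmersion f⟩, ⟨V, hV⟩, hxV, (f.preimage_image_eq V).ge, ?_⟩
  apply isLocHom_of_bijective
  have : IsIso (f.appLE (f ''ᵁ V) V (f.preimage_image_eq V).ge) := by
    rw [← Scheme.Hom.appIso_hom' f V]
    infer_instance
  exact ConcreteCategory.bijective_of_isIso _

theorem isLocalizing_comp {f : X ⟶ Y} {g : Y ⟶ Z} (hf : IsLocalizing f) (hg : IsLocalizing g) :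
    IsLocalizing (f ≫ g) := by
  intro x
  obtain ⟨Ug, Vg, hyV, eg, hg'⟩ := hg (f x)
  obtain ⟨U, V, ef, hxV, -, hUle, hf'⟩ := exists_chart hf x (show x ∈ (⊤ : X.Opens) from trivial) hyV
  obtain ⟨a, b, hab, hfa⟩ := exists_basicOpen_le_affine_inter U.2 Vg.2 (f x) ⟨ef hxV, hyV⟩
  have hg'' := isLocHom_appLE_basicOpen g Ug.1 Vg.2 eg hg' b
  have hf'' := isLocHom_appLE_congr f _ hab rfl (isLocHom_appLE_target f U.2 V.2 ef hf' a)
    ((Scheme.basicOpen_appLE f V.1 U.1 ef a).trans_le inf_le_right |>.trans (by rw [hab]))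
  have hx' : x ∈ X.basicOpen (f.appLE U.1 V.1 ef a) := by
    rw [Scheme.basicOpen_appLE]
    exact ⟨hxV, hfa⟩
  refine ⟨Ug, ⟨_, V.2.basicOpen (f.appLE U.1 V.1 ef a)⟩, hx', ?_, ?_⟩
  · exact fun z hz => eg (Y.basicOpen_le b (hab ▸ ((Scheme.basicOpen_appLE f V.1 U.1 ef a).trans_le inf_le_right) hz))
  · rw [← Scheme.Hom.appLE_comp_appLE f g Ug.1 (Y.basicOpen b) (X.basicOpen (f.appLE U.1 V.1 ef a))
      ((Y.basicOpen_le b).trans eg)
      (((Scheme.basicOpen_appLE f V.1 U.1 ef a).trans_le inf_le_right).trans (by rw [hab])), CommRingCat.hom_comp]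
    exact isLocHom_comp hg'' hf''

theorem flat_of_isLocalizing {f : X ⟶ Y} (hf : IsLocalizing f) : Flat f := by
  refine (HasRingHomProperty.iff_exists_appLE (P := @Flat)
    (RingHom.Flat.stableUnderComposition.stableUnderCompositionWithLocalizationAway
      RingHom.Flat.holdsForLocalizationAway).left).2 fun x => ?_
  obtain ⟨U, V, hxV, e, h⟩ := hf x
  exact ⟨U, V, hxV, e, flat_of_isLocHom h⟩

theorem surjectiveOnStalks_of_isLocalizing {f : X ⟶ Y} (hf : IsLocalizing f) : SurjectiveOnStalks f := by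
  choose U V hxV e h using hf
  refine (IsZariskiLocalAtSource.iff_of_iSup_eq_top (P := @SurjectiveOnStalks) (fun x => (V x).1)
    (eq_top_iff.2 fun x _ => Opens.mem_iSup.2 ⟨x, hxV x⟩)).2 fun x => ?_
  have : IsAffine ((U x).1 : Scheme.{u}) := (U x).2
  have : IsAffine ((V x).1 : Scheme.{u}) := (V x).2
  have hr : SurjectiveOnStalks (f.resLE (U x).1 (V x).1 (e x)) := by
    rw [SurjectiveOnStalks.iff_of_isAffine, show ((f.resLE (U x).1 (V x).1 (e x)).app ⊤) =
      (U x).1.topIso.hom ≫ f.appLE (U x).1 (V x).1 (e x) ≫ (V x).1.topIso.inv from Scheme.Hom.resLE_app_top f (e x)]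
    refine surjectiveOnStalks_of_isLocHom ?_
    change IsLocHom (((V x).1.topIso.inv.hom.comp (f.appLE (U x).1 (V x).1 (e x)).hom).comp (U x).1.topIso.hom.hom)
    exact isLocHom_comp (isLocHom_of_bijective (ConcreteCategory.bijective_of_isIso (U x).1.topIso.hom))
      (isLocHom_comp (h x) (isLocHom_of_bijective (ConcreteCategory.bijective_of_isIso (V x).1.topIso.inv)))
  rw [← Scheme.Hom.resLE_comp_ι f (e x)]
  infer_instance

theorem isIso_stalkMap_of_flat_surjectiveOnStalks (f : X ⟶ Y) [Flat f] [SurjectiveOnStalks f] (x : X) :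
    IsIso (f.stalkMap x) := by
  refine (ConcreteCategory.isIso_iff_bijective (f.stalkMap x)).2 ⟨?_, f.stalkMap_surjective x⟩
  let := (f.stalkMap x).hom.toAlgebra
  have : IsLocalHom (algebraMap (Y.presheaf.stalk (f x)) (X.presheaf.stalk x)) :=
    inferInstanceAs (IsLocalHom (f.stalkMap x).hom)
  have : Module.Flat (Y.presheaf.stalk (f x)) (X.presheaf.stalk x) := Flat.stalkMap f x
  have := Module.FaithfullyFlat.of_flat_of_isLocalHom (A := Y.presheaf.stalk (f x)) (B := X.presheaf.stalk x)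
  exact FaithfulSMul.algebraMap_injective (Y.presheaf.stalk (f x)) (X.presheaf.stalk x)

theorem isIso_stalkMap_of_isLocalizing {f : X ⟶ Y} (hf : IsLocalizing f) (x : X) : IsIso (f.stalkMap x) :=
  have := flat_of_isLocalizing hf
  have := surjectiveOnStalks_of_isLocalizing hf
  isIso_stalkMap_of_flat_surjectiveOnStalks f x

theorem isLocImmersion_comp {f : X ⟶ Y} {g : Y ⟶ Z} (hf : IsLocImmersion f) (hg : IsLocImmersion g) :
    IsLocImmersion (f ≫ g) :=
  ⟨isLocalizing_comp hf.1 hg.1, fun _ _ h => hf.2 (hg.2 h)⟩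

theorem isLocImmersion_of_isOpenImmersion (f : X ⟶ Y) [IsOpenImmersion f] : IsLocImmersion f :=
  ⟨isLocalizing_of_isOpenImmersion f, f.isOpenEmbedding.injective⟩

theorem mono_of_isLocImmersion {f : X ⟶ Y} (hf : IsLocImmersion f) : Mono f :=
  have := surjectiveOnStalks_of_isLocalizing hf.1
  SurjectiveOnStalks.mono_of_injective hf.2

theorem generalizingMap_of_isLocalizing {f : X ⟶ Y} (hf : IsLocalizing f) : GeneralizingMap f :=
  have := flat_of_isLocalizing hf
  Flat.generalizingMap f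

end Groth.Agent.H48.LocImm
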