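import Groth.Agent.H48.LocImm.TwoPieces

/-! Every separated essentially finite type morphism factors through a finite type one. -/

set_option autoImplicit false
universe u

open CategoryTheory AlgebraicGeometry TopologicalSpace

namespace Groth.Agent.H48.LocImm

open _root_.LocImm

/-- The opens over which `f` factors. -/
def Good {X S : Scheme.{u}} (f : X ⟶ S) (W : X.Opens) : Prop :=
  ∃ (Y : Scheme.{u}) (k : (W : Scheme.{u}) ⟶ Y) (p : Y ⟶ S), IsNoetherian Y ∧ IsLocImmersion k ∧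
    IsSeparated p ∧ LocallyOfFiniteType p ∧ QuasiCompact p ∧ k ≫ p = W.ι ≫ f

theorem good_of_appLE {X S : Scheme.{u}} [IsNoetherian S] (f : X ⟶ S) (U : S.affineOpens) (V : X.affineOpens)
    (e : V.1 ≤ f ⁻¹ᵁ U.1) (h : (f.appLE U.1 V.1 e).hom.EssFiniteType) : Good f V.1 := by
  have hU : IsAffineOpen U.1 := U.2
  have hV : IsAffineOpen V.1 := V.2
  have := hU.isOpenImmersion_fromSpec
  let : Algebra Γ(S, U.1) Γ(X, V.1) := (f.appLE U.1 V.1 e).hom.toAlgebra
  have : Algebra.EssFiniteType Γ(S, U.1) Γ(X, V.1) := h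
  let C := Algebra.EssFiniteType.subalgebra Γ(S, U.1) Γ(X, V.1)
  have : Algebra.FiniteType Γ(S, U.1) C :=
    (Subalgebra.fg_iff_finiteType _).1 ⟨Algebra.EssFiniteType.finset Γ(S, U.1) Γ(X, V.1), rfl⟩
  let φ : CommRingCat.of C ⟶ Γ(X, V.1) := CommRingCat.ofHom (algebraMap C Γ(X, V.1))
  let ψ : Γ(S, U.1) ⟶ CommRingCat.of C := CommRingCat.ofHom (algebraMap Γ(S, U.1) C)
  have hcomp : ψ ≫ φ = f.appLE U.1 V.1 e := rfl
  have hφ : IsLocHom φ.hom := isLocHom_algebraMap (Algebra.EssFiniteType.submonoid Γ(S, U.1) Γ(X, V.1))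
  have hφ' : IsLocImmersion (Spec.map φ) :=
    ⟨(HasRingHomProperty.Spec_iff (P := localizingProp)).2 (RingHom.locally_of isLocHom_respectsIso _ hφ),
      comap_injective_of_isLocHom hφ⟩
  have hp : LocallyOfFiniteType (Spec.map ψ) :=
    (HasRingHomProperty.Spec_iff (P := @LocallyOfFiniteType) (Q := RingHom.FiniteType)).2
      (RingHom.finiteType_algebraMap.2 inferInstance)
  have : IsAffineHom (Spec.map ψ) := inferInstance
  have hN : IsNoetherian (Spec (CommRingCat.of C)) := isNoetherian_of_finiteType (Spec.map ψ ≫ hU.fromSpec)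
  refine ⟨Spec (CommRingCat.of C), hV.isoSpec.hom ≫ Spec.map φ, Spec.map ψ ≫ hU.fromSpec, hN,
    isLocImmersion_comp (isLocImmersion_of_isOpenImmersion _) hφ', inferInstance, inferInstance, inferInstance, ?_⟩
  rw [Category.assoc, ← Category.assoc (Spec.map φ), ← Spec.map_comp, hcomp, hU.SpecMap_appLE_fromSpec f hV e,
    ← IsAffineOpen.isoSpec_inv_ι, Category.assoc, Iso.hom_inv_id_assoc]

theorem good_sup {X S : Scheme.{u}} [IsNoetherian X] [IsNoetherian S] (f : X ⟶ S) [IsSeparated f]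
    {A B : X.Opens} (hA : Good f A) (hB : Good f B) : Good f (A ⊔ B) := by
  obtain ⟨Y₁, k₁, p₁, _, hk₁, _, _, _, h₁⟩ := hA
  obtain ⟨Y₂, k₂, p₂, _, hk₂, _, _, _, h₂⟩ := hB
  let W := A ⊔ B
  have : IsNoetherian (W : Scheme.{u}) := isNoetherian_of_finiteType W.ι
  let U₁ : (W : Scheme.{u}).Opens := W.ι ⁻¹ᵁ A
  let U₂ : (W : Scheme.{u}).Opens := W.ι ⁻¹ᵁ B
  have hr₁ : Set.range (U₁.ι ≫ W.ι) ⊆ Set.range A.ι := by
    rw [Scheme.Opens.range_ι]; rintro _ ⟨z, rfl⟩; exact z.2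
  have hr₂ : Set.range (U₂.ι ≫ W.ι) ⊆ Set.range B.ι := by
    rw [Scheme.Opens.range_ι]; rintro _ ⟨z, rfl⟩; exact z.2
  have : IsOpenImmersion (IsOpenImmersion.lift A.ι (U₁.ι ≫ W.ι) hr₁) := by
    have : IsOpenImmersion (IsOpenImmersion.lift A.ι (U₁.ι ≫ W.ι) hr₁ ≫ A.ι) := by
      rw [IsOpenImmersion.lift_fac]; infer_instance
    exact IsOpenImmersion.of_comp _ A.ι
  have : IsOpenImmersion (IsOpenImmersion.lift B.ι (U₂.ι ≫ W.ι) hr₂) := by
    have : IsOpenImmersion (IsOpenImmersion.lift B.ι (U₂.ι ≫ W.ι) hr₂ ≫ B.ι) := by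
      rw [IsOpenImmersion.lift_fac]; infer_instance
    exact IsOpenImmersion.of_comp _ B.ι
  exact exists_factorization_of_two (W.ι ≫ f) U₁ U₂ (eq_top_iff.2 fun z _ => z.2) Y₁ Y₂
    (IsOpenImmersion.lift A.ι (U₁.ι ≫ W.ι) hr₁ ≫ k₁) (IsOpenImmersion.lift B.ι (U₂.ι ≫ W.ι) hr₂ ≫ k₂) p₁ p₂
    (isLocImmersion_comp (isLocImmersion_of_isOpenImmersion _) hk₁)
    (isLocImmersion_comp (isLocImmersion_of_isOpenImmersion _) hk₂)
    (by rw [Category.assoc, h₁, IsOpenImmersion.lift_fac_assoc, Category.assoc])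
    (by rw [Category.assoc, h₂, IsOpenImmersion.lift_fac_assoc, Category.assoc])

theorem exists_factorization {X S : Scheme.{u}} [IsNoetherian X] [IsNoetherian S] (f : X ⟶ S) [IsSeparated f]
    [EssFT.LocallyEssFiniteType f] :
    ∃ (Y : Scheme.{u}) (k : X ⟶ Y) (p : Y ⟶ S), IsNoetherian Y ∧ IsLocImmersion k ∧ IsSeparated p ∧
      LocallyOfFiniteType p ∧ QuasiCompact p ∧ k ≫ p = f := by
  classical
  by_cases hX : IsEmpty X
  · have : IsOpenImmersion f := isOpenImmersion_of_isEmpty f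
    exact ⟨X, 𝟙 X, f, inferInstance, isLocImmersion_of_isOpenImmersion _, inferInstance, inferInstance,
      inferInstance, Category.id_comp f⟩
  have hch : ∀ x : X, ∃ V : X.affineOpens, x ∈ V.1 ∧ Good f V.1 := by
    intro x
    obtain ⟨U, V, hx, e, h⟩ := EssFT.LocallyEssFiniteType.exists_appLE_essFiniteType (f := f) x
    exact ⟨V, hx, good_of_appLE f U V e h⟩
  choose V hxV hV using hch
  obtain ⟨t, ht⟩ := isCompact_univ.elim_finite_subcover (fun x : X => ((V x).1 : Set X)) (fun x => (V x).1.2)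
    fun x _ => Set.mem_iUnion.2 ⟨x, hxV x⟩
  have hne : t.Nonempty := by
    obtain ⟨x⟩ := not_isEmpty_iff.1 hX
    obtain ⟨i, hi, -⟩ := Set.mem_iUnion₂.1 (ht (Set.mem_univ x))
    exact ⟨i, hi⟩
  have hsup : t.sup' hne (fun x => (V x).1) = ⊤ := by
    refine eq_top_iff.2 fun x _ => ?_
    obtain ⟨i, hi, hxi⟩ := Set.mem_iUnion₂.1 (ht (Set.mem_univ x))
    exact Finset.le_sup' (fun x => (V x).1) hi hxi
  have hgood : Good f (t.sup' hne (fun x => (V x).1)) :=
    Finset.sup'_induction hne _ (fun _ ha _ hb => good_sup f ha hb) fun i _ => hV i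
  rw [hsup] at hgood
  obtain ⟨Y, k, p, hY, hk, h1, h2, h3, h⟩ := hgood
  refine ⟨Y, X.topIso.inv ≫ k, p, hY, isLocImmersion_comp (isLocImmersion_of_isOpenImmersion _) hk, h1, h2, h3, ?_⟩
  rw [Category.assoc, h, ← Scheme.topIso_hom, Iso.inv_hom_id_assoc]

end Groth.Agent.H48.LocImm
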