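import Groth.Agent.H48.LocImm.Immersion
import Mathlib.RingTheory.Localization.BaseChange
import Mathlib.AlgebraicGeometry.Morphisms.RingHomProperties

/-! Localizing morphisms as a morphism property. -/

set_option autoImplicit false
universe u

open CategoryTheory AlgebraicGeometry Limits

namespace Groth.Agent.H48.LocImm

open _root_.LocImm

/-- Localizing ring maps as a property of ring maps. -/
abbrev LocHomProp : ∀ {R S : Type u} [CommRing R] [CommRing S], (R →+* S) → Prop :=
  fun φ => IsLocHom φ

/-- Localizing morphisms as a morphism property. -/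
def localizingProp : MorphismProperty Scheme.{u} := fun _ _ f => IsLocalizing f

theorem locHom_isStableUnderBaseChange : RingHom.IsStableUnderBaseChange LocHomProp.{u} := by
  refine RingHom.IsStableUnderBaseChange.mk isLocHom_respectsIso fun R S T _ _ _ _ _ h => ?_
  obtain ⟨M, hM⟩ : ∃ M : Submonoid R, IsLocalization M T := by
    obtain ⟨M, hM⟩ := h
    exact ⟨M, (Algebra.algebra_ext (algebraMap R T).toAlgebra ‹Algebra R T› fun _ => rfl) ▸ hM⟩
  exact isLocHom_algebraMap (Algebra.algebraMapSubmonoid S M)

theorem locHom_stableUnderComposition : RingHom.StableUnderComposition LocHomProp.{u} :=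
  fun _ _ _ _ _ _ _ _ hf hg => isLocHom_comp hf hg

theorem locHom_holdsForLocalizationAway : RingHom.HoldsForLocalizationAway LocHomProp.{u} :=
  fun _ S _ _ _ r _ => isLocHom_algebraMap (B := S) (Submonoid.powers r)

instance localizingProp_hasRingHomProperty :
    HasRingHomProperty localizingProp.{u} (RingHom.Locally LocHomProp) :=
  HasRingHomProperty.locally_of_iff locHom_isStableUnderBaseChange.localizationPreserves.away
    (locHom_stableUnderComposition.stableUnderCompositionWithLocalizationAway
      locHom_holdsForLocalizationAway)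
    (fun _ => Iff.rfl)

instance localizingProp_isStableUnderBaseChange : localizingProp.{u}.IsStableUnderBaseChange :=
  HasRingHomProperty.isStableUnderBaseChange
    (RingHom.locally_isStableUnderBaseChange isLocHom_respectsIso locHom_isStableUnderBaseChange)

theorem isLocalizing_pullback_snd {X Y Y' : Scheme.{u}} (f : X ⟶ Y) (g : Y' ⟶ Y) (hf : IsLocalizing f) :
    IsLocalizing (pullback.snd f g) :=
  MorphismProperty.pullback_snd (P := localizingProp) f g hf

theorem isLocImmersion_pullback_snd {X Y Y' : Scheme.{u}} (f : X ⟶ Y) (g : Y' ⟶ Y)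
    (hf : IsLocImmersion f) : IsLocImmersion (pullback.snd f g) :=
  have := mono_of_isLocImmersion hf
  isLocImmersion_of_mono (isLocalizing_pullback_snd f g hf.1)

theorem isLocalizing_restrict {X Y : Scheme.{u}} {f : X ⟶ Y} (hf : IsLocalizing f) (U : Y.Opens) :
    IsLocalizing (f ∣_ U) :=
  IsZariskiLocalAtTarget.restrict (P := localizingProp) hf U

theorem isLocImmersion_restrict {X Y : Scheme.{u}} {f : X ⟶ Y} (hf : IsLocImmersion f) (U : Y.Opens) :
    IsLocImmersion (f ∣_ U) :=
  ⟨isLocalizing_restrict hf.1 U, fun a b h => Subtype.ext (hf.2 (by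
    have := congrArg U.ι h
    rwa [← Scheme.Hom.comp_apply, ← Scheme.Hom.comp_apply, morphismRestrict_ι, Scheme.Hom.comp_apply,
      Scheme.Hom.comp_apply] at this))⟩

theorem isLocalizing_iff_openCover {X Y : Scheme.{u}} (f : X ⟶ Y) (𝒰 : X.OpenCover) :
    IsLocalizing f ↔ ∀ i, IsLocalizing (𝒰.f i ≫ f) :=
  IsZariskiLocalAtSource.iff_of_openCover (P := localizingProp) 𝒰

theorem isLocalizing_iff_iSup {X Y : Scheme.{u}} (f : X ⟶ Y) {ι : Type u} (U : ι → X.Opens)
    (hU : iSup U = ⊤) : IsLocalizing f ↔ ∀ i, IsLocalizing ((U i).ι ≫ f) :=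
  IsZariskiLocalAtSource.iff_of_iSup_eq_top (P := localizingProp) U hU

end Groth.Agent.H48.LocImm
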