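import Groth.Agent.H48.LocImm.Affine

/-! The first factor of a localizing immersion, when schematically dominant. -/

set_option autoImplicit false
universe u

open CategoryTheory AlgebraicGeometry TopologicalSpace

namespace Groth.Agent.H48.LocImm

open _root_.LocImm

theorem isLocImmersion_of_comp_of_app_injective {X Y Z : Scheme.{u}} [IsNoetherian X]
    (f : X ⟶ Y) (g : Y ⟶ Z) (hfg : IsLocImmersion (f ≫ g))
    (hd : ∀ U : Y.Opens, Function.Injective (f.app U).hom) : IsLocImmersion f := by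
  refine (isLocImmersion_iff_nice f).2 fun x => ?_
  obtain ⟨W, hxW, -, hW, hB, hl⟩ := exists_nice_nhd hfg x (show (f ≫ g) x ∈ (⊤ : Z.Opens) from trivial)
  obtain ⟨U, hU, hxU, hUle⟩ := exists_isAffineOpen_mem_and_subset
    (show f x ∈ g ⁻¹ᵁ W from hxW)
  obtain ⟨W', hW'⟩ := exists_preimage_eq hfg (f ⁻¹ᵁ U)
  obtain ⟨c, hc, hzc⟩ := hW.exists_basicOpen_le (V := W') ⟨(f ≫ g) x, hW'.ge hxU⟩ hxW
  have e : U ≤ g ⁻¹ᵁ W := fun y hy => hUle hy
  have heq : f ⁻¹ᵁ Y.basicOpen (g.appLE W U e c) = (f ≫ g) ⁻¹ᵁ Z.basicOpen c := by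
    rw [Scheme.basicOpen_appLE]
    ext z
    exact ⟨fun h => h.2, fun h => ⟨hW'.le (hc h), h⟩⟩
  refine ⟨_, ?_, hU.basicOpen (g.appLE W U e c), ?_, ?_⟩
  · rw [Scheme.basicOpen_appLE]
    exact ⟨hxU, hzc⟩
  · rw [heq, Scheme.preimage_basicOpen]
    exact hB.basicOpen _
  · rw [Scheme.Hom.app_eq_appLE] at hl
    have hl' := isLocHom_appLE_target (f ≫ g) hW hB le_rfl hl c
    have heq' : X.basicOpen ((f ≫ g).appLE W ((f ≫ g) ⁻¹ᵁ W) le_rfl c) = f ⁻¹ᵁ Y.basicOpen (g.appLE W U e c) := by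
      rw [heq, Scheme.basicOpen_appLE]
      exact inf_eq_right.2 fun z hz => Z.basicOpen_le c hz
    have hl'' := isLocHom_appLE_congr (f ≫ g) _ rfl heq' hl' (le_of_eq heq)
    rw [← Scheme.Hom.appLE_comp_appLE f g (Z.basicOpen c) (Y.basicOpen (g.appLE W U e c))
      (f ⁻¹ᵁ Y.basicOpen (g.appLE W U e c))
      ((Scheme.basicOpen_appLE g U W e c).trans_le inf_le_right) le_rfl, CommRingCat.hom_comp,
      ← Scheme.Hom.app_eq_appLE] at hl''
    exact isLocHom_of_comp_injective (hd _) hl''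

end Groth.Agent.H48.LocImm
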