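import Groth.Prelude.Def_EssFT
import Mathlib.AlgebraicGeometry.Morphisms.FiniteType

/-! Finite type implies essentially finite type. -/

set_option autoImplicit false
universe u

open CategoryTheory AlgebraicGeometry

namespace Groth.Agent.H48.LocImm

theorem locallyEssFiniteType_of_locallyOfFiniteType {X Y : Scheme.{u}} (f : X ⟶ Y) [LocallyOfFiniteType f] :
    EssFT.LocallyEssFiniteType f := by
  refine ⟨fun x => ?_⟩
  obtain ⟨U, hU, hxU, -⟩ := exists_isAffineOpen_mem_and_subset (show f x ∈ (⊤ : Y.Opens) from trivial)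
  obtain ⟨V, hV, hxV, hVU⟩ := exists_isAffineOpen_mem_and_subset (show x ∈ f ⁻¹ᵁ U from hxU)
  have e : V ≤ f ⁻¹ᵁ U := fun z hz => hVU hz
  refine ⟨⟨U, hU⟩, ⟨V, hV⟩, hxV, e, ?_⟩
  have h := HasRingHomProperty.appLE (P := @LocallyOfFiniteType) f inferInstance ⟨U, hU⟩ ⟨V, hV⟩ e
  exact RingHom.FiniteType.essFiniteType h

end Groth.Agent.H48.LocImm
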