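import Groth.Agent.H48.LocImm.Affine
import Mathlib.AlgebraicGeometry.Morphisms.Separated
import Mathlib.AlgebraicGeometry.Stalk

/-! Injectivity of localizing morphisms via maximal points. -/

set_option autoImplicit false
universe u

open CategoryTheory AlgebraicGeometry TopologicalSpace Limits

namespace Groth.Agent.H48.LocImm

open _root_.LocImm

variable {X Y : Scheme.{u}}

/-- A localizing morphism is locally a localizing immersion. -/
theorem exists_isLocImmersion_nhd {f : X ⟶ Y} (hf : IsLocalizing f) (x : X) :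
    ∃ V : X.Opens, x ∈ V ∧ IsLocImmersion (V.ι ≫ f) := by
  obtain ⟨U, V, hxV, e, h⟩ := hf x
  refine ⟨V.1, hxV, isLocalizing_comp (isLocalizing_of_isOpenImmersion _) hf, fun a b hab => ?_⟩
  exact Subtype.ext (injOn_of_isLocHom f U.2 V.2 e h a.2 b.2 hab)

/-- Generalizations of a point with equal images are equal. -/
theorem eq_of_specializes {f : X ⟶ Y} (hf : IsLocalizing f) {a b z : X} (ha : a ⤳ z) (hb : b ⤳ z)
    (h : f a = f b) : a = b := by
  obtain ⟨V, hz, hV⟩ := exists_isLocImmersion_nhd hf z
  exact congrArg Subtype.val (@hV.2 ⟨a, ha.mem_open V.2 hz⟩ ⟨b, hb.mem_open V.2 hz⟩ h)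

/-- The maximal points: points without proper generization. -/
theorem exists_maximal [QuasiSober X] (x : X) : ∃ η : X, η ⤳ x ∧ ∀ x' : X, x' ⤳ η → x' = η := by
  obtain ⟨η, hη⟩ := QuasiSober.sober (isIrreducible_irreducibleComponent (x := x)) isClosed_irreducibleComponent
  refine ⟨η, hη.specializes mem_irreducibleComponent, fun x' hx' => ?_⟩
  have hmax : irreducibleComponent x ∈ irreducibleComponents X :=
    irreducibleComponent_mem_irreducibleComponents x
  have h1 : irreducibleComponent x ⊆ closure ({x'} : Set X) := by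
    rw [← hη.def]
    exact closure_minimal (Set.singleton_subset_iff.2 hx'.mem_closure) isClosed_closure
  have h2 : closure ({x'} : Set X) ⊆ irreducibleComponent x := hmax.2 isIrreducible_singleton.closure h1
  exact (Specializes.antisymm hx' ((hη.specializes (h2 (subset_closure rfl))))).eq

theorem exists_section {f : X ⟶ Y} (hf : IsLocalizing f) (z : X) (s : Y) (h : f z = s) :
    ∃ j : Spec (Y.presheaf.stalk s) ⟶ X, j ≫ f = Y.fromSpecStalk s ∧
      j (IsLocalRing.closedPoint (Y.presheaf.stalk s)) = z := by
  subst h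
  have := isIso_stalkMap_of_isLocalizing hf z
  refine ⟨Spec.map (inv (f.stalkMap z)) ≫ X.fromSpecStalk z, ?_, ?_⟩
  · rw [Category.assoc, ← Scheme.SpecMap_stalkMap_fromSpecStalk, ← Category.assoc, ← Spec.map_comp,
      IsIso.hom_inv_id, Spec.map_id, Category.id_comp]
  · have : IsLocalHom (inv (f.stalkMap z)).hom := isLocalHom_of_isIso _
    refine Eq.trans ?_ (Scheme.fromSpecStalk_closedPoint (x := z))
    exact congrArg (X.fromSpecStalk z) (IsLocalRing.comap_closedPoint (inv (f.stalkMap z)).hom)

/-- A separated localizing morphism identifies points with a common generalization and equal image. -/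
theorem eq_of_common_generalization {f : X ⟶ Y} (hf : IsLocalizing f) [IsSeparated f] {x y η : X}
    (hx : η ⤳ x) (hy : η ⤳ y) (h : f x = f y) : x = y := by
  obtain ⟨jx, hjx, hjx'⟩ := exists_section hf x (f x) rfl
  obtain ⟨jy, hjy, hjy'⟩ := exists_section hf y (f x) h.symm
  obtain ⟨p, hp⟩ : f η ∈ Set.range (Y.fromSpecStalk (f x)) := by
    rw [Scheme.range_fromSpecStalk]
    exact hx.map f.continuous
  let c : (Spec (Y.presheaf.stalk (f x))) := IsLocalRing.closedPoint (Y.presheaf.stalk (f x))
  have hjx'' : jx c = x := hjx'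
  have hjy'' : jy c = y := hjy'
  have hspec : p ⤳ c := IsLocalRing.specializes_closedPoint p
  have hpx : jx p = η := eq_of_specializes hf ((hspec.map jx.continuous).trans (specializes_of_eq hjx'')) hx
    (by rw [← Scheme.Hom.comp_apply, hjx, hp])
  have hpy : jy p = η := eq_of_specializes hf ((hspec.map jy.continuous).trans (specializes_of_eq hjy'')) hy
    (by rw [← Scheme.Hom.comp_apply, hjy, hp])
  let φ : Spec (Y.presheaf.stalk (f x)) ⟶ pullback f f := pullback.lift jx jy (hjx.trans hjy.symm)
  have hclosed : IsClosed (φ ⁻¹' Set.range (pullback.diagonal f)) :=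
    (pullback.diagonal f).isClosedEmbedding.isClosed_range.preimage φ.continuous
  have hmem : φ p ∈ Set.range (pullback.diagonal f) := by
    obtain ⟨V, hηV, hV⟩ := exists_isLocImmersion_nhd hf η
    have := mono_of_isLocImmersion hV
    let q := (Spec (Y.presheaf.stalk (f x))).fromSpecResidueField p
    have hr : ∀ j : Spec (Y.presheaf.stalk (f x)) ⟶ X, j p = η → Set.range (q ≫ j) ⊆ Set.range V.ι := by
      rintro j hj _ ⟨w, rfl⟩
      rw [Scheme.Opens.range_ι, Scheme.Hom.comp_apply]
      have : q w = p := Scheme.fromSpecResidueField_apply _ w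
      rw [this, hj]
      exact hηV
    have heq : q ≫ jx = q ≫ jy := by
      have : IsOpenImmersion.lift V.ι (q ≫ jx) (hr jx hpx) = IsOpenImmersion.lift V.ι (q ≫ jy) (hr jy hpy) := by
        rw [← cancel_mono (V.ι ≫ f), IsOpenImmersion.lift_fac_assoc, IsOpenImmersion.lift_fac_assoc,
          Category.assoc, Category.assoc, hjx, hjy]
      simpa using congrArg (· ≫ V.ι) this
    have : q ≫ φ = (q ≫ jx) ≫ pullback.diagonal f := by
      apply pullback.hom_ext
      · rw [Category.assoc, Category.assoc, Category.assoc, pullback.lift_fst, pullback.diagonal_fst, Category.comp_id]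
      · rw [Category.assoc, Category.assoc, Category.assoc, pullback.lift_snd, pullback.diagonal_snd, Category.comp_id, heq]
    let c' : Spec ((Spec (Y.presheaf.stalk (f x))).residueField p) := IsLocalRing.closedPoint _
    refine ⟨(q ≫ jx) c', ?_⟩
    rw [← Scheme.Hom.comp_apply, ← this, Scheme.Hom.comp_apply, Scheme.fromSpecResidueField_apply]
  obtain ⟨w, hw⟩ := hspec.mem_closed hclosed hmem
  have h1 : w = x := by
    have := congrArg (pullback.fst f f) hw
    rwa [← Scheme.Hom.comp_apply, ← Scheme.Hom.comp_apply, pullback.diagonal_fst, pullback.lift_fst, hjx''] at this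
  have h2 : w = y := by
    have := congrArg (pullback.snd f f) hw
    rwa [← Scheme.Hom.comp_apply, ← Scheme.Hom.comp_apply, pullback.diagonal_snd, pullback.lift_snd, hjy''] at this
  exact h1.symm.trans h2

theorem injective_of_injOn_maximal {f : X ⟶ Y} (hf : IsLocalizing f) [IsSeparated f]
    (hinj : Set.InjOn f {x : X | ∀ x' : X, x' ⤳ x → x' = x}) : Function.Injective f := by
  intro x y hxy
  obtain ⟨η, hηx, hη⟩ := exists_maximal x
  obtain ⟨η', hη'y, hη'f⟩ := generalizingMap_of_isLocalizing hf (show f η ⤳ f y from hxy ▸ hηx.map f.continuous)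
  obtain ⟨ζ, hζ, hζmax⟩ := exists_maximal η'
  have hηmax' : f ζ = f η := by
    obtain ⟨v, hv, hvf⟩ := generalizingMap_of_isLocalizing hf (show f ζ ⤳ f η from hη'f ▸ hζ.map f.continuous)
    rw [← hvf, hη v hv]
  have := hinj hζmax hη hηmax'
  subst this
  exact eq_of_common_generalization hf hηx (hζ.trans hη'y) hxy

end Groth.Agent.H48.LocImm
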