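import Groth.Agent.H48.LocImm.Spread
import Groth.Agent.H48.LocImm.MaxPoints

/-! Shrinking around the image of a localizing immersion. -/

set_option autoImplicit false
universe u

open CategoryTheory AlgebraicGeometry TopologicalSpace

namespace Groth.Agent.H48.LocImm

open _root_.LocImm

theorem exists_open_restrict_isLocImmersion {X Y₁ Y₂ : Scheme.{u}} [IsNoetherian Y₁] [IsLocallyNoetherian Y₂]
    (f₁ : X ⟶ Y₁) (f₂ : X ⟶ Y₂) (g : Y₁ ⟶ Y₂) (hf₁ : IsLocImmersion f₁) (hf₂ : IsLocImmersion f₂)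
    [IsSeparated g] [EssFT.LocallyEssFiniteType g] (h : f₁ ≫ g = f₂) :
    ∃ U : Y₁.Opens, Set.range (fun x => f₁ x) ⊆ (U : Set Y₁) ∧ IsLocImmersion (U.ι ≫ g) := by
  have hiso : ∀ x : X, IsIso (g.stalkMap (f₁ x)) := by
    intro x
    have h1 := isIso_stalkMap_of_isLocalizing hf₁.1 x
    have h2 : IsIso ((f₁ ≫ g).stalkMap x) := h ▸ isIso_stalkMap_of_isLocalizing hf₂.1 x
    have h3 : IsIso (g.stalkMap (f₁ x) ≫ f₁.stalkMap x) := by
      rw [← Scheme.Hom.stalkMap_comp]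
      exact h2
    exact IsIso.of_isIso_comp_right _ (f₁.stalkMap x)
  choose N hN hNloc using fun x : X => (have := hiso x; exists_localizing_nhd g (f₁ x))
  let U₀ : Y₁.Opens := iSup N
  have hU₀ : IsLocalizing (U₀.ι ≫ g) := by
    refine (isLocalizing_iff_iSup _ (fun x => U₀.ι ⁻¹ᵁ N x) ?_).2 fun x => ?_
    · refine eq_top_iff.2 fun z _ => ?_
      obtain ⟨x, hx⟩ := Opens.mem_iSup.1 z.2
      exact Opens.mem_iSup.2 ⟨x, hx⟩
    · rw [← Category.assoc, ← Scheme.Hom.resLE_comp_ι U₀.ι (le_refl (U₀.ι ⁻¹ᵁ N x)), Category.assoc]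
      have : IsOpenImmersion (U₀.ι.resLE (N x) (U₀.ι ⁻¹ᵁ N x) le_rfl) := by
        have : IsOpenImmersion (U₀.ι.resLE (N x) (U₀.ι ⁻¹ᵁ N x) le_rfl ≫ (N x).ι) := by
          rw [Scheme.Hom.resLE_comp_ι]
          infer_instance
        exact IsOpenImmersion.of_comp _ (N x).ι
      exact isLocalizing_comp (isLocalizing_of_isOpenImmersion _) (hNloc x)
  let T : Set (Set Y₁) := {t ∈ irreducibleComponents Y₁ | ∀ x, closure ({f₁ x} : Set Y₁) ≠ t}
  have hTc : IsClosed (⋃ t ∈ T, t) :=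
    (TopologicalSpace.NoetherianSpace.finite_irreducibleComponents.subset fun t ht => ht.1).isClosed_biUnion
      fun t ht => isClosed_of_mem_irreducibleComponents t ht.1
  let U : Y₁.Opens := U₀ ⊓ ⟨_, hTc.isOpen_compl⟩
  have hgen := (generalizingMap_of_isLocalizing hf₁.1).stableUnderGeneralization_range
  have hUr : Set.range (fun x => f₁ x) ⊆ (U : Set Y₁) := by
    rintro _ ⟨x, rfl⟩
    refine ⟨Opens.mem_iSup.2 ⟨x, hN x⟩, fun hmem => ?_⟩
    obtain ⟨t, ht, hxt⟩ := Set.mem_iUnion₂.1 hmem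
    obtain ⟨η, hη⟩ := QuasiSober.sober ht.1.1 (isClosed_of_mem_irreducibleComponents t ht.1)
    obtain ⟨x', hx'⟩ := hgen (hη.specializes hxt) ⟨x, rfl⟩
    exact ht.2 x' (hx' ▸ hη.def)
  have hUloc : IsLocalizing (U.ι ≫ g) := by
    rw [← Scheme.homOfLE_ι Y₁ (inf_le_left : U ≤ U₀), Category.assoc]
    exact isLocalizing_comp (isLocalizing_of_isOpenImmersion _) hU₀
  refine ⟨U, hUr, hUloc, ?_⟩
  refine injective_of_injOn_maximal hUloc fun a ha b hb hab => ?_
  have hmem : ∀ z : U, (∀ z' : U, z' ⤳ z → z' = z) → ∃ x, f₁ x = z.1 := by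
    intro z hz
    obtain ⟨η, hηz, hηmax⟩ := exists_maximal (z.1 : Y₁)
    have hzη : η = z.1 := congrArg Subtype.val
      (hz ⟨η, hηz.mem_open U.2 z.2⟩ (Topology.IsInducing.subtypeVal.specializes_iff.1 hηz))
    by_contra hne
    push Not at hne
    apply z.2.2
    have hcomp : closure ({η} : Set Y₁) ∈ irreducibleComponents Y₁ := by
      refine ⟨isIrreducible_singleton.closure, fun t ht hle => ?_⟩
      have htc : IsIrreducible (closure t) := ht.closure
      obtain ⟨ζ, hζ⟩ := QuasiSober.sober htc isClosed_closure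
      have hζη : ζ = η := hηmax ζ (hζ.specializes (subset_closure (hle (subset_closure rfl))))
      exact subset_closure.trans (by rw [← hζη, hζ.def])
    refine Set.mem_iUnion₂.2 ⟨_, ⟨hcomp, fun x hx => hne x ?_⟩, hzη ▸ subset_closure rfl⟩
    rw [← hzη]
    exact ((isGenericPoint_closure (x := f₁ x)).eq (show IsGenericPoint η (closure {f₁ x}) from hx.symm))
  obtain ⟨x, hx⟩ := hmem a ha
  obtain ⟨x', hx'⟩ := hmem b hb
  have : f₂ x = f₂ x' := by
    rw [← h, Scheme.Hom.comp_apply, Scheme.Hom.comp_apply, hx, hx']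
    exact hab
  exact Subtype.ext (hx.symm.trans ((hf₂.2 this) ▸ hx'))

end Groth.Agent.H48.LocImm
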