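import Groth.Agent.H48.LocImm.Basic
import Mathlib.AlgebraicGeometry.Noetherian
import Mathlib.AlgebraicGeometry.Morphisms.ClosedImmersion
import Mathlib.AlgebraicGeometry.Morphisms.UniversallyInjective
import Mathlib.Topology.Sober

/-! Localizing immersions are topological embeddings. -/

set_option autoImplicit false
universe u

open CategoryTheory AlgebraicGeometry TopologicalSpace Opposite

namespace Groth.Agent.H48.LocImm

open _root_.LocImm

variable {X Y Z : Scheme.{u}}

/-- A generalizing injection out of a Noetherian sober space is an embedding. -/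
theorem isEmbedding_of_generalizing {α β : Type*} [TopologicalSpace α] [TopologicalSpace β]
    [QuasiSober α] [NoetherianSpace α] {g : α → β} (hc : Continuous g) (hi : Function.Injective g)
    (hg : GeneralizingMap g) : Topology.IsEmbedding g := by
  refine ⟨Topology.isInducing_iff_nhds.2 fun x => le_antisymm (hc.tendsto x).le_comap ?_, hi⟩
  intro s hs
  obtain ⟨V, hVs, hV, hxV⟩ := mem_nhds_iff.1 hs
  obtain ⟨S, hSf, hSc, hSi, hSU⟩ := NoetherianSpace.exists_finite_set_isClosed_irreducible hV.isClosed_compl
  have hclosed : IsClosed (⋃ t ∈ S, closure (g '' t)) := hSf.isClosed_biUnion fun _ _ => isClosed_closure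
  have hnot : g x ∉ ⋃ t ∈ S, closure (g '' t) := by
    simp only [Set.mem_iUnion, not_exists]
    intro t ht hgt
    obtain ⟨z, hz⟩ := QuasiSober.sober (hSi t ht) (hSc t ht)
    have h1 : g z ⤳ g x := by
      rw [specializes_iff_mem_closure]
      refine closure_minimal ?_ isClosed_closure hgt
      rintro _ ⟨w, hw, rfl⟩
      exact ((hz.specializes hw).map hc).mem_closure
    obtain ⟨v, hvx, hv⟩ := hg h1
    have hzt : z ∈ t := hz.mem
    have hzV : z ∉ V := by
      have : z ∈ Vᶜ := hSU ▸ Set.mem_sUnion.2 ⟨t, ht, hzt⟩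
      exact this
    exact hzV (hi hv ▸ hvx.mem_open hV hxV)
  refine Filter.mem_comap.2 ⟨_, hclosed.isOpen_compl.mem_nhds hnot, fun w hw => hVs ?_⟩
  by_contra hwV
  have : w ∈ ⋃₀ S := hSU ▸ hwV
  obtain ⟨t, ht, hwt⟩ := Set.mem_sUnion.1 this
  exact hw (Set.mem_iUnion₂.2 ⟨t, ht, subset_closure ⟨w, hwt, rfl⟩⟩)

theorem isEmbedding_of_isLocImmersion [IsNoetherian X] {f : X ⟶ Y} (hf : IsLocImmersion f) :
    Topology.IsEmbedding f :=
  isEmbedding_of_generalizing f.continuous hf.2 (generalizingMap_of_isLocalizing hf.1)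

theorem stableUnderGeneralization_range {f : X ⟶ Y} (hf : IsLocalizing f) :
    StableUnderGeneralization (Set.range f) :=
  (generalizingMap_of_isLocalizing hf).stableUnderGeneralization_range

theorem isPreimmersion_of_isLocImmersion [IsNoetherian X] {f : X ⟶ Y} (hf : IsLocImmersion f) :
    IsPreimmersion f :=
  { stalkMap_surjective := (surjectiveOnStalks_of_isLocalizing hf.1).stalkMap_surjective
    isEmbedding := isEmbedding_of_isLocImmersion hf }

theorem isLocImmersion_of_mono {f : X ⟶ Y} (hf : IsLocalizing f) [Mono f] : IsLocImmersion f :=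
  ⟨hf, f.injective⟩

/-- An open subset of the source is the preimage of an open subset of the target. -/
theorem exists_preimage_eq [IsNoetherian X] {f : X ⟶ Y} (hf : IsLocImmersion f) (V : X.Opens) :
    ∃ W : Y.Opens, f ⁻¹ᵁ W = V := by
  obtain ⟨W, hW, h⟩ := (isEmbedding_of_isLocImmersion hf).isInducing.isOpen_iff.1 V.2
  exact ⟨⟨W, hW⟩, Opens.ext h⟩

end Groth.Agent.H48.LocImm
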