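import Groth.Agent.H48.LocImm.Property

/-! Affine charts of localizing immersions. -/

set_option autoImplicit false
universe u

open CategoryTheory AlgebraicGeometry TopologicalSpace

namespace Groth.Agent.H48.LocImm

open _root_.LocImm

variable {X Y : Scheme.{u}}

/-- Every point in the image of a localizing immersion has arbitrarily small affine neighbourhoods
with affine preimage and localizing ring map. -/
theorem exists_nice_nhd [IsNoetherian X] {f : X ⟶ Y} (hf : IsLocImmersion f) (x : X)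
    {U₀ : Y.Opens} (hU₀ : f x ∈ U₀) :
    ∃ U : Y.Opens, f x ∈ U ∧ U ≤ U₀ ∧ IsAffineOpen U ∧ IsAffineOpen (f ⁻¹ᵁ U) ∧ IsLocHom (f.app U).hom := by
  obtain ⟨U, V, e, hxV, -, hUle, h⟩ := exists_chart hf.1 x (show x ∈ (⊤ : X.Opens) from trivial) hU₀
  obtain ⟨W, hW⟩ := exists_preimage_eq hf V.1
  obtain ⟨a, ha, hfa⟩ := U.2.exists_basicOpen_le (V := W) ⟨f x, hW.ge hxV⟩ (e hxV)
  have heq : X.basicOpen (f.appLE U.1 V.1 e a) = f ⁻¹ᵁ Y.basicOpen a := by
    rw [Scheme.basicOpen_appLE]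
    exact inf_eq_right.2 fun z hz => hW.le (ha hz)
  refine ⟨Y.basicOpen a, hfa, (Y.basicOpen_le a).trans hUle, U.2.basicOpen a,
    heq ▸ V.2.basicOpen _, ?_⟩
  rw [Scheme.Hom.app_eq_appLE]
  exact isLocHom_appLE_congr f _ rfl heq (isLocHom_appLE_target f U.2 V.2 e h a) le_rfl

/-- A localizing piece is injective. -/
theorem injOn_of_isLocHom (f : X ⟶ Y) {U : Y.Opens} (hU : IsAffineOpen U) {V : X.Opens} (hV : IsAffineOpen V)
    (e : V ≤ f ⁻¹ᵁ U) (h : IsLocHom (f.appLE U V e).hom) : Set.InjOn f (V : Set X) := by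
  intro x hx y hy hxy
  obtain ⟨p, hp⟩ : x ∈ Set.range hV.fromSpec := hV.range_fromSpec.symm ▸ hx
  obtain ⟨q, hq⟩ : y ∈ Set.range hV.fromSpec := hV.range_fromSpec.symm ▸ hy
  rw [← hp, ← hq] at hxy ⊢
  congr 1
  apply comap_injective_of_isLocHom h
  apply hU.fromSpec.isOpenEmbedding.injective
  rw [← Scheme.Hom.comp_apply, ← Scheme.Hom.comp_apply, ← hU.SpecMap_appLE_fromSpec f hV e] at hxy
  exact hxy

theorem isLocImmersion_iff_nice [IsNoetherian X] (f : X ⟶ Y) :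
    IsLocImmersion f ↔ ∀ x : X, ∃ V : Y.Opens, f x ∈ V ∧ IsAffineOpen V ∧ IsAffineOpen (f ⁻¹ᵁ V) ∧
      IsLocHom (f.app V).hom := by
  refine ⟨fun hf x => ?_, fun h => ⟨fun x => ?_, fun x y hxy => ?_⟩⟩
  · obtain ⟨U, h1, -, h2⟩ := exists_nice_nhd hf x (show f x ∈ (⊤ : Y.Opens) from trivial)
    exact ⟨U, h1, h2⟩
  · obtain ⟨V, hx, hV, hV', hl⟩ := h x
    rw [Scheme.Hom.app_eq_appLE] at hl
    exact ⟨⟨V, hV⟩, ⟨_, hV'⟩, hx, le_rfl, hl⟩
  · obtain ⟨V, hx, hV, hV', hl⟩ := h x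
    rw [Scheme.Hom.app_eq_appLE] at hl
    exact injOn_of_isLocHom f hV hV' le_rfl hl hx
      (show f y ∈ V from (hxy : f x = f y) ▸ hx) hxy

end Groth.Agent.H48.LocImm
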