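import Groth.Agent.H48.LocImm.Shrink
import Groth.Agent.H48.LocImm.EssFT
import Groth.Agent.H48.LocImm.Dominant
import Mathlib.AlgebraicGeometry.IdealSheaf.Subscheme
import Mathlib.AlgebraicGeometry.Morphisms.UniversallyOpen
import Mathlib.AlgebraicGeometry.Morphisms.FinitePresentation

/-! Two finite type factorizations agree near the source. -/

set_option autoImplicit false
universe u

open CategoryTheory AlgebraicGeometry TopologicalSpace Limits

namespace Groth.Agent.H48.LocImm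

open _root_.LocImm

theorem toImage_app_injective {X Y : Scheme.{u}} (f : X ⟶ Y) [QuasiCompact f] (U : f.image.Opens) :
    Function.Injective (f.toImage.app U).hom :=
  TopCat.Presheaf.app_injective_of_stalkFunctor_map_injective (F := f.image.sheaf)
    f.toImage.c U fun x _ => f.stalkFunctor_toImage_injective x

theorem isNoetherian_of_finiteType {X Y : Scheme.{u}} [IsNoetherian Y] (f : X ⟶ Y)
    [LocallyOfFiniteType f] [QuasiCompact f] : IsNoetherian X :=
  { LocallyOfFiniteType.isLocallyNoetherian f with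
    toCompactSpace := QuasiCompact.compactSpace_of_compactSpace f }

theorem isOpenImmersion_of_isLocImmersion {X Y : Scheme.{u}} [IsNoetherian X] [IsLocallyNoetherian Y]
    (f : X ⟶ Y) (hf : IsLocImmersion f) [LocallyOfFiniteType f] : IsOpenImmersion f := by
  have := flat_of_isLocalizing hf.1
  have hlfp : LocallyOfFinitePresentation f := inferInstance
  exact IsOpenImmersion.iff_isIso_stalkMap.2 ⟨⟨isEmbedding_of_isLocImmersion hf, f.isOpenMap.isOpen_range⟩,
    fun x => isIso_stalkMap_of_isLocalizing hf.1 x⟩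

theorem isLocImmersion_of_comp_openImmersion {X Y Z : Scheme.{u}} (k : X ⟶ Y) (g : Y ⟶ Z) [IsOpenImmersion g]
    (h : IsLocImmersion (k ≫ g)) : IsLocImmersion k :=
  ⟨MorphismProperty.of_isPullback (P := localizingProp)
      (IsPullback.of_horiz_isIso_mono (fst := 𝟙 X) (snd := k) (f := k ≫ g) (g := g) ⟨by simp⟩) h.1,
    fun a b hab => h.2 (by simp [hab])⟩

theorem exists_common {X Y₁ Y₂ S : Scheme.{u}} [IsNoetherian X] [IsNoetherian Y₁] [IsNoetherian Y₂]
    [IsNoetherian S] (f₁ : X ⟶ Y₁) (f₂ : X ⟶ Y₂) (π₁ : Y₁ ⟶ S) (π₂ : Y₂ ⟶ S)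
    (hf₁ : IsLocImmersion f₁) (hf₂ : IsLocImmersion f₂)
    [IsSeparated π₁] [IsSeparated π₂] [LocallyOfFiniteType π₁] [LocallyOfFiniteType π₂]
    (h : f₁ ≫ π₁ = f₂ ≫ π₂) :
    ∃ (W : Scheme.{u}) (k : X ⟶ W) (g₁ : W ⟶ Y₁) (g₂ : W ⟶ Y₂),
      IsLocImmersion k ∧ IsOpenImmersion g₁ ∧ IsOpenImmersion g₂ ∧ g₁ ≫ π₁ = g₂ ≫ π₂ ∧
        k ≫ g₁ = f₁ ∧ k ≫ g₂ = f₂ := by
  let φ : X ⟶ pullback π₁ π₂ := pullback.lift f₁ f₂ h
  have hq1 : QuasiCompact π₁ := inferInstance
  have hq2 : QuasiCompact π₂ := inferInstance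
  have : IsNoetherian (pullback π₁ π₂) := isNoetherian_of_finiteType (pullback.fst π₁ π₂)
  have : QuasiCompact φ := inferInstance
  have : IsNoetherian φ.image := isNoetherian_of_finiteType φ.imageι
  let p₁ : φ.image ⟶ Y₁ := φ.imageι ≫ pullback.fst π₁ π₂
  let p₂ : φ.image ⟶ Y₂ := φ.imageι ≫ pullback.snd π₁ π₂
  have hp₁ : φ.toImage ≫ p₁ = f₁ := by
    rw [Scheme.Hom.toImage_imageι_assoc]
    exact pullback.lift_fst _ _ _
  have hp₂ : φ.toImage ≫ p₂ = f₂ := by
    rw [Scheme.Hom.toImage_imageι_assoc]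
    exact pullback.lift_snd _ _ _
  have hi : IsLocImmersion φ.toImage :=
    isLocImmersion_of_comp_of_app_injective φ.toImage p₁ (hp₁ ▸ hf₁) (toImage_app_injective φ)
  have := locallyEssFiniteType_of_locallyOfFiniteType p₁
  have := locallyEssFiniteType_of_locallyOfFiniteType p₂
  obtain ⟨U₁, hU₁, hl₁⟩ := exists_open_restrict_isLocImmersion φ.toImage f₁ p₁ hi hf₁ hp₁
  obtain ⟨U₂, hU₂, hl₂⟩ := exists_open_restrict_isLocImmersion φ.toImage f₂ p₂ hi hf₂ hp₂
  let U : φ.image.Opens := U₁ ⊓ U₂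
  have hr : Set.range φ.toImage ⊆ Set.range U.ι := by
    rw [Scheme.Opens.range_ι]
    exact fun z hz => ⟨hU₁ hz, hU₂ hz⟩
  have : IsNoetherian (U₁ : Scheme.{u}) := isNoetherian_of_finiteType U₁.ι
  have : IsNoetherian (U₂ : Scheme.{u}) := isNoetherian_of_finiteType U₂.ι
  have := isOpenImmersion_of_isLocImmersion _ hl₁
  have := isOpenImmersion_of_isLocImmersion _ hl₂
  have ho₁ : IsOpenImmersion (U.ι ≫ p₁) := by
    rw [← Scheme.homOfLE_ι φ.image (inf_le_left : U ≤ U₁), Category.assoc]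
    infer_instance
  have ho₂ : IsOpenImmersion (U.ι ≫ p₂) := by
    rw [← Scheme.homOfLE_ι φ.image (inf_le_right : U ≤ U₂), Category.assoc]
    infer_instance
  refine ⟨U, IsOpenImmersion.lift U.ι φ.toImage hr, U.ι ≫ p₁, U.ι ≫ p₂, ?_, ho₁, ho₂, ?_, ?_, ?_⟩
  · apply isLocImmersion_of_comp_openImmersion (IsOpenImmersion.lift U.ι φ.toImage hr) (U.ι ≫ p₁)
    rw [IsOpenImmersion.lift_fac_assoc, hp₁]
    exact hf₁
  · rw [Category.assoc, Category.assoc]
    simp [p₁, p₂, pullback.condition]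
  · rw [IsOpenImmersion.lift_fac_assoc, hp₁]
  · rw [IsOpenImmersion.lift_fac_assoc, hp₂]

end Groth.Agent.H48.LocImm
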