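import Groth.Prelude.Def_W4c5cptfessfintypeLocImm
import Mathlib.RingTheory.Localization.LocalizationLocalization
import Mathlib.RingTheory.RingHom.Flat
import Mathlib.RingTheory.SurjectiveOnStalks
import Mathlib.RingTheory.Flat.Localization

/-! Algebra of localizing ring maps. -/

set_option autoImplicit false

namespace Groth.Agent.H48.LocImm

open _root_.LocImm

variable {A B C : Type*} [CommRing A] [CommRing B] [CommRing C]

/-- The three conditions defining a localizing map, with the largest possible submonoid. -/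
theorem isLocHom_iff (φ : A →+* B) : IsLocHom φ ↔
    (∀ b, ∃ a s, IsUnit (φ s) ∧ b * φ s = φ a) ∧
    (∀ x y, φ x = φ y → ∃ s, IsUnit (φ s) ∧ s * x = s * y) := by
  let := φ.toAlgebra
  constructor
  · rintro ⟨S, hS⟩
    refine ⟨fun b => ?_, fun x y h => ?_⟩
    · obtain ⟨⟨a, s⟩, h⟩ := IsLocalization.surj S b
      exact ⟨a, s, IsLocalization.map_units B s, h⟩
    · obtain ⟨c, hc⟩ := IsLocalization.exists_of_eq (M := S) (S := B) h
      exact ⟨c, IsLocalization.map_units B c, hc⟩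
  · rintro ⟨hs, he⟩
    refine ⟨(IsUnit.submonoid B).comap (φ : A →* B), (isLocalization_iff _ _).2
      ⟨fun s => s.2, fun b => ?_, fun {x y} h => ?_⟩⟩
    · obtain ⟨a, s, hu, h⟩ := hs b
      exact ⟨⟨a, ⟨s, hu⟩⟩, h⟩
    · obtain ⟨s, hu, h'⟩ := he x y h
      exact ⟨⟨s, hu⟩, h'⟩

theorem isLocHom_of_bijective {φ : A →+* B} (h : Function.Bijective φ) : IsLocHom φ := by
  refine (isLocHom_iff φ).2 ⟨fun b => ?_, fun x y hxy => ⟨1, by simp, by rw [h.1 hxy]⟩⟩
  obtain ⟨a, rfl⟩ := h.2 b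
  exact ⟨a, 1, by simp, by simp⟩

theorem isLocHom_algebraMap [Algebra A B] (S : Submonoid A) [IsLocalization S B] :
    IsLocHom (algebraMap A B) := by
  refine (isLocHom_iff _).2 ⟨fun b => ?_, fun x y h => ?_⟩
  · obtain ⟨⟨a, s⟩, h⟩ := IsLocalization.surj S b
    exact ⟨a, s, IsLocalization.map_units B s, h⟩
  · obtain ⟨c, hc⟩ := IsLocalization.exists_of_eq (M := S) (S := B) h
    exact ⟨c, IsLocalization.map_units B c, hc⟩

theorem isLocHom_comp {φ : A →+* B} {ψ : B →+* C} (hφ : IsLocHom φ) (hψ : IsLocHom ψ) :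
    IsLocHom (ψ.comp φ) := by
  rw [isLocHom_iff] at hφ hψ ⊢
  refine ⟨fun c => ?_, fun x y h => ?_⟩
  · obtain ⟨b, t, ht, hct⟩ := hψ.1 c
    obtain ⟨a, s, hs, hbs⟩ := hφ.1 b
    obtain ⟨t', u, hu, htu⟩ := hφ.1 t
    refine ⟨a * u, t' * s, ?_, ?_⟩
    · rw [RingHom.comp_apply, map_mul, ← htu, map_mul, map_mul]
      exact (ht.mul (hu.map ψ)).mul (hs.map ψ)
    · simp only [RingHom.comp_apply, map_mul, ← htu, ← hbs]
      rw [← hct]
      ring
  · obtain ⟨t, ht, htxy⟩ := hψ.2 _ _ h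
    obtain ⟨t', u, hu, htu⟩ := hφ.1 t
    have : φ (t' * x) = φ (t' * y) := by
      rw [map_mul, map_mul, ← htu, mul_right_comm, htxy, mul_right_comm]
    obtain ⟨s, hs, hsxy⟩ := hφ.2 _ _ this
    refine ⟨s * t', ?_, by rw [mul_assoc, mul_assoc, hsxy]⟩
    rw [RingHom.comp_apply, map_mul, ← htu, map_mul, map_mul]
    exact (hs.map ψ).mul (ht.mul (hu.map ψ))

/-- Cancellation: if `A → B` and `A → B → C` are localizing then so is `B → C`. -/
theorem isLocHom_of_comp {φ : A →+* B} {ψ : B →+* C} (hφ : IsLocHom φ)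
    (h : IsLocHom (ψ.comp φ)) : IsLocHom ψ := by
  rw [isLocHom_iff] at hφ h ⊢
  refine ⟨fun c => ?_, fun x y hxy => ?_⟩
  · obtain ⟨a, s, hs, hcs⟩ := h.1 c
    exact ⟨φ a, φ s, hs, hcs⟩
  · obtain ⟨a, s, hs, hxs⟩ := hφ.1 x
    obtain ⟨a', s', hs', hys⟩ := hφ.1 y
    have he : ψ.comp φ (a * s') = ψ.comp φ (a' * s) := by
      simp only [RingHom.comp_apply, map_mul, ← hxs, ← hys, hxy]
      ring
    obtain ⟨t, ht, hteq⟩ := h.2 _ _ he
    refine ⟨φ t, ht, (hs.mul hs').mul_left_injective ?_⟩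
    have := congrArg φ hteq
    simp only [map_mul, ← hxs, ← hys] at this
    dsimp only
    linear_combination this

/-- If `B → C` is injective and `A → B → C` is localizing then so is `B → C`. -/
theorem isLocHom_of_comp_injective {φ : A →+* B} {ψ : B →+* C} (hψ : Function.Injective ψ)
    (h : IsLocHom (ψ.comp φ)) : IsLocHom ψ := by
  rw [isLocHom_iff] at h ⊢
  refine ⟨fun c => ?_, fun x y hxy => ⟨1, by simp, by rw [hψ hxy]⟩⟩
  obtain ⟨a, s, hs, hcs⟩ := h.1 c
  exact ⟨φ a, φ s, hs, hcs⟩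

theorem isLocHom_respectsIso : RingHom.RespectsIso (fun {R S} [CommRing R] [CommRing S] φ => IsLocHom φ) :=
  ⟨fun _ e h => isLocHom_comp h (isLocHom_of_bijective e.bijective),
    fun _ e h => isLocHom_comp (isLocHom_of_bijective e.bijective) h⟩

theorem flat_of_isLocHom {φ : A →+* B} (h : IsLocHom φ) : φ.Flat := by
  let := φ.toAlgebra
  obtain ⟨S, hS⟩ := h
  exact IsLocalization.flat B S

theorem surjectiveOnStalks_of_isLocHom {φ : A →+* B} (h : IsLocHom φ) : φ.SurjectiveOnStalks := by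
  refine RingHom.surjectiveOnStalks_of_exists_div fun b => ?_
  obtain ⟨a, s, hs, hbs⟩ := ((isLocHom_iff φ).1 h).1 b
  exact ⟨a, s, hs, by rw [mul_comm, hbs]⟩

/-- A localizing map is injective on prime ideals. -/
theorem comap_injective_of_isLocHom {φ : A →+* B} (h : IsLocHom φ) :
    Function.Injective (PrimeSpectrum.comap φ) := by
  let := φ.toAlgebra
  obtain ⟨S, hS⟩ := h
  exact PrimeSpectrum.localization_comap_injective B S

end Groth.Agent.H48.LocImm
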