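import Groth.Agent.H48.LocImm.StalkImm
import Groth.Agent.H48.LocImm.Factor
import Groth.Agent.H48.LocImm.Common

/-! Localizable properties of separated essentially finite type morphisms. -/

set_option autoImplicit false
universe u

open CategoryTheory AlgebraicGeometry

namespace Groth.Agent.H48.LocImm

open _root_.LocImm

theorem isLocImmersion_specMap_of_isIso {R S : CommRingCat.{u}} (φ : R ⟶ S) [IsIso φ] : IsLocImmersion (Spec.map φ) :=
  isLocImmersion_of_isOpenImmersion _

theorem fromSpecStalk_comp_localizing {X Z Y : Scheme.{u}} (i : X ⟶ Z) (p : Z ⟶ Y) (x : X) :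
    X.fromSpecStalk x ≫ i ≫ p = Spec.map (i.stalkMap x) ≫ Z.fromSpecStalk (i x) ≫ p := by
  rw [← Category.assoc, ← Scheme.SpecMap_stalkMap_fromSpecStalk, Category.assoc]

/-- The conditions of a localizable property. -/
structure Localizable (P : MorphismProperty Scheme.{u}) : Prop where
  comp : ∀ {W X Y : Scheme.{u}} [IsNoetherian W] [IsNoetherian X] [IsNoetherian Y] (i : W ⟶ X) (f : X ⟶ Y)
    [IsSeparated f] [EssFT.EssFiniteType f], IsLocImmersion i → P f → P (i ≫ f)
  local_ft : ∀ {X Y : Scheme.{u}} [IsNoetherian X] [IsNoetherian Y] (f : X ⟶ Y) [IsSeparated f]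
    [LocallyOfFiniteType f], (∀ x : X, P (X.fromSpecStalk x ≫ f)) → P f
  open_ft : ∀ {X Y : Scheme.{u}} [IsNoetherian X] [IsNoetherian Y] (f : X ⟶ Y) [IsSeparated f]
    [LocallyOfFiniteType f], IsOpen {x : X | P (X.fromSpecStalk x ≫ f)}

variable {P : MorphismProperty Scheme.{u}}

theorem stalk_iff (hP : Localizable P) {X Z Y : Scheme.{u}} [IsNoetherian X] [IsNoetherian Z] [IsNoetherian Y]
    (i : X ⟶ Z) (p : Z ⟶ Y) [IsSeparated p] [EssFT.EssFiniteType p] (hi : IsLocImmersion i) (x : X) :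
    P (X.fromSpecStalk x ≫ i ≫ p) ↔ P (Z.fromSpecStalk (i x) ≫ p) := by
  have := isIso_stalkMap_of_isLocalizing hi.1 x
  have := essFiniteType_fromSpecStalk_comp p (i x)
  rw [fromSpecStalk_comp_localizing]
  constructor
  · intro h
    have hE : EssFT.EssFiniteType (Spec.map (i.stalkMap x) ≫ Z.fromSpecStalk (i x) ≫ p) := by
      have := locallyEssFiniteType_of_locallyOfFiniteType (Spec.map (i.stalkMap x))
      exact { toLocallyEssFiniteType := locallyEssFiniteType_comp _ _ }
    have := hP.comp (Spec.map (inv (i.stalkMap x))) _ (isLocImmersion_specMap_of_isIso _) h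
    rwa [← Category.assoc, ← Spec.map_comp, IsIso.hom_inv_id, Spec.map_id, Category.id_comp] at this
  · exact hP.comp _ _ (isLocImmersion_specMap_of_isIso _)

theorem essFiniteType_of_locallyOfFiniteType {X Y : Scheme.{u}} (f : X ⟶ Y) [LocallyOfFiniteType f] [QuasiCompact f] :
    EssFT.EssFiniteType f :=
  { toLocallyEssFiniteType := locallyEssFiniteType_of_locallyOfFiniteType f }

theorem exists_factor_prop (hP : Localizable P) {X Y : Scheme.{u}} [IsNoetherian X] [IsNoetherian Y] (f : X ⟶ Y)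
    [IsSeparated f] [EssFT.EssFiniteType f] (h : ∀ x : X, P (X.fromSpecStalk x ≫ f)) :
    ∃ (Z : Scheme.{u}) (i : X ⟶ Z) (p : Z ⟶ Y), IsNoetherian Z ∧ IsLocImmersion i ∧ IsSeparated p ∧
      LocallyOfFiniteType p ∧ QuasiCompact p ∧ P p ∧ i ≫ p = f := by
  obtain ⟨Y₁, k, p, _, hk, _, _, _, rfl⟩ := exists_factorization f
  have := essFiniteType_of_locallyOfFiniteType p
  let V : Y₁.Opens := ⟨_, hP.open_ft p⟩
  have hr : Set.range k ⊆ Set.range V.ι := by
    rintro _ ⟨x, rfl⟩; rw [Scheme.Opens.range_ι]; exact (stalk_iff hP k p hk x).1 (h x)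
  let k' := IsOpenImmersion.lift V.ι k hr
  have hk' : k' ≫ V.ι = k := IsOpenImmersion.lift_fac _ _ hr
  have hkl : IsLocImmersion k' := isLocImmersion_of_comp_openImmersion k' V.ι (by rwa [hk'])
  have : IsNoetherian (V : Scheme.{u}) := isNoetherian_of_finiteType V.ι
  refine ⟨V, k', V.ι ≫ p, ‹_›, hkl, inferInstance, inferInstance, inferInstance, hP.local_ft _ fun v =>
    (stalk_iff hP V.ι p (isLocImmersion_of_isOpenImmersion _) v).2 v.2, by rw [← Category.assoc, hk']⟩

theorem prop_of_stalks (hP : Localizable P) {X Y : Scheme.{u}} [IsNoetherian X] [IsNoetherian Y] (f : X ⟶ Y)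
    [IsSeparated f] [EssFT.EssFiniteType f] (h : ∀ x : X, P (X.fromSpecStalk x ≫ f)) : P f := by
  obtain ⟨Z, i, p, _, hi, _, _, _, hp, rfl⟩ := exists_factor_prop hP f h
  have := essFiniteType_of_locallyOfFiniteType p
  exact hP.comp i p hi hp

theorem isOpen_stalks (hP : Localizable P) {X Y : Scheme.{u}} [IsNoetherian X] [IsNoetherian Y] (f : X ⟶ Y)
    [IsSeparated f] [EssFT.EssFiniteType f] : IsOpen {x : X | P (X.fromSpecStalk x ≫ f)} := by
  obtain ⟨Y₁, k, p, _, hk, _, _, _, rfl⟩ := exists_factorization f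
  have := essFiniteType_of_locallyOfFiniteType p
  simp_rw [stalk_iff hP k p hk]
  exact (hP.open_ft p).preimage k.continuous

theorem stalks_of_prop (hP : Localizable P) {X Y : Scheme.{u}} [IsNoetherian X] [IsNoetherian Y] (f : X ⟶ Y)
    [IsSeparated f] [EssFT.EssFiniteType f] (h : P f) (x : X) : P (X.fromSpecStalk x ≫ f) :=
  hP.comp _ f (isLocImmersion_fromSpecStalk X x) h

end Groth.Agent.H48.LocImm
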