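import Mathlib.AlgebraicGeometry.Limits
import Mathlib.AlgebraicGeometry.Gluing
import Mathlib.AlgebraicGeometry.Morphisms.Separated
import Mathlib.AlgebraicGeometry.Morphisms.ClosedImmersion
import Mathlib.AlgebraicGeometry.Morphisms.Preimmersion
import Mathlib.AlgebraicGeometry.Morphisms.Immersion

/-! Gluing two schemes along an open. -/

set_option autoImplicit false
universe u

open CategoryTheory AlgebraicGeometry Limits TopologicalSpace

namespace Groth.Agent.H48.LocImm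

variable {W Y₁ Y₂ : Scheme.{u}} (g₁ : W ⟶ Y₁) (g₂ : W ⟶ Y₂) [IsOpenImmersion g₁] [IsOpenImmersion g₂]

instance : IsOpenImmersion (pushout.inl g₁ g₂) :=
  inferInstanceAs (IsOpenImmersion (colimit.ι (span g₁ g₂) WalkingSpan.left))

instance : IsOpenImmersion (pushout.inr g₁ g₂) :=
  inferInstanceAs (IsOpenImmersion (colimit.ι (span g₁ g₂) WalkingSpan.right))

theorem pushout_jointly_surjective (z : ↥(pushout g₁ g₂)) :
    (∃ x, pushout.inl g₁ g₂ x = z) ∨ (∃ y, pushout.inr g₁ g₂ y = z) := by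
  obtain ⟨i, xi, rfl⟩ := Scheme.IsLocallyDirected.ι_jointly_surjective (span g₁ g₂) z
  obtain (_ | (_ | _)) := i
  · left
    let xw : W := xi
    refine ⟨g₁ xw, ?_⟩
    change (g₁ ≫ pushout.inl g₁ g₂) xw = _
    have : g₁ ≫ pushout.inl g₁ g₂ = colimit.ι (span g₁ g₂) WalkingSpan.zero :=
      colimit.w (span g₁ g₂) WalkingSpan.Hom.fst
    rw [this]
    rfl
  · exact Or.inl ⟨xi, rfl⟩
  · exact Or.inr ⟨xi, rfl⟩

theorem inl_eq_inr_iff {x : Y₁} {y : Y₂} :
    pushout.inl g₁ g₂ x = pushout.inr g₁ g₂ y ↔ ∃ w, g₁ w = x ∧ g₂ w = y := by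
  constructor
  · intro h
    obtain ⟨k, fi, fj, w, h1, h2⟩ := (Scheme.IsLocallyDirected.ι_eq_ι_iff (span g₁ g₂)
      (i := WalkingSpan.left) (j := WalkingSpan.right) (xi := x) (xj := y)).1 h
    obtain (_ | (_ | _)) := k
    · obtain rfl : fi = WalkingSpan.Hom.fst := Subsingleton.elim _ _
      obtain rfl : fj = WalkingSpan.Hom.snd := Subsingleton.elim _ _
      exact ⟨w, h1, h2⟩
    · exact nomatch fj
    · exact nomatch fi
  · rintro ⟨w, rfl, rfl⟩
    rw [← Scheme.Hom.comp_apply, ← Scheme.Hom.comp_apply, pushout.condition]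

theorem sup_opensRange : (pushout.inl g₁ g₂).opensRange ⊔ (pushout.inr g₁ g₂).opensRange = ⊤ :=
  eq_top_iff.2 fun z _ => (pushout_jointly_surjective g₁ g₂ z).imp id id

theorem preimage_range_diagonal {S Z A B C : Scheme.{u}} (p : Z ⟶ S) (a : A ⟶ Z) (b : B ⟶ Z)
    [IsOpenImmersion a] [IsOpenImmersion b] (qA : A ⟶ S) (qB : B ⟶ S) (hA : a ≫ p = qA) (hB : b ≫ p = qB)
    (u : C ⟶ A) (v : C ⟶ B) (hc : u ≫ qA = v ≫ qB) (huv : u ≫ a = v ≫ b)
    (hmeet : ∀ x y, a x = b y → ∃ c, u c = x) :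
    pullback.map qA qB p p a b (𝟙 S) (by rw [Category.comp_id, hA]) (by rw [Category.comp_id, hB]) ⁻¹'
      Set.range (pullback.diagonal p) = Set.range (pullback.lift u v hc) := by
  set m := pullback.map qA qB p p a b (𝟙 S) (by rw [Category.comp_id, hA]) (by rw [Category.comp_id, hB])
  have key : pullback.lift u v hc ≫ m = (u ≫ a) ≫ pullback.diagonal p := by
    apply pullback.hom_ext
    · rw [Category.assoc, Category.assoc, pullback.lift_fst, pullback.lift_fst_assoc, pullback.diagonal_fst,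
        Category.comp_id]
    · rw [Category.assoc, Category.assoc, pullback.lift_snd, pullback.lift_snd_assoc, pullback.diagonal_snd,
        Category.comp_id, huv]
  have : IsOpenImmersion m := inferInstance
  ext q
  constructor
  · rintro ⟨z, hz⟩
    have e1 : m ≫ pullback.fst p p = pullback.fst qA qB ≫ a := pullback.lift_fst _ _ _
    have e2 : m ≫ pullback.snd p p = pullback.snd qA qB ≫ b := pullback.lift_snd _ _ _
    have h1 : z = a (pullback.fst qA qB q) := by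
      have h := congrArg (pullback.fst p p) hz
      rwa [← Scheme.Hom.comp_apply, ← Scheme.Hom.comp_apply, pullback.diagonal_fst, e1] at h
    have h2 : z = b (pullback.snd qA qB q) := by
      have h := congrArg (pullback.snd p p) hz
      rwa [← Scheme.Hom.comp_apply, ← Scheme.Hom.comp_apply, pullback.diagonal_snd, e2] at h
    obtain ⟨c, hc'⟩ := hmeet _ _ (h1.symm.trans h2)
    refine ⟨c, m.isOpenEmbedding.injective ?_⟩
    rw [← Scheme.Hom.comp_apply, key, Scheme.Hom.comp_apply, Scheme.Hom.comp_apply, hc', ← h1, hz]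
  · rintro ⟨c, rfl⟩
    refine ⟨(u ≫ a) c, ?_⟩
    rw [← Scheme.Hom.comp_apply, ← key, Scheme.Hom.comp_apply]

variable {S : Scheme.{u}} (p₁ : Y₁ ⟶ S) (p₂ : Y₂ ⟶ S) (hw : g₁ ≫ p₁ = g₂ ≫ p₂)

include hw in
/-- Gluing is separated when the overlap is closed in the product. -/
theorem isSeparated_desc [IsSeparated p₁] [IsSeparated p₂]
    (hc : IsClosed (Set.range (pullback.lift g₁ g₂ hw))) :
    IsSeparated (pushout.desc p₁ p₂ hw) := by
  set p := pushout.desc p₁ p₂ hw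
  refine ⟨IsClosedImmersion.of_isPreimmersion _ ?_⟩
  have hi₁ : pushout.inl g₁ g₂ ≫ p = p₁ := pushout.inl_desc _ _ _
  have hi₂ : pushout.inr g₁ g₂ ≫ p = p₂ := pushout.inr_desc _ _ _
  rw [← isOpen_compl_iff, isOpen_iff_forall_mem_open]
  intro z hz
  suffices ∀ {A B : Scheme.{u}} (a : A ⟶ pushout g₁ g₂) (b : B ⟶ pushout g₁ g₂) (qA : A ⟶ S) (qB : B ⟶ S)
      [IsOpenImmersion a] [IsOpenImmersion b] (hA : a ≫ p = qA) (hB : b ≫ p = qB),
      pullback.fst p p z ∈ Set.range a → pullback.snd p p z ∈ Set.range b →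
      IsClosed (pullback.map qA qB p p a b (𝟙 S) (by rw [Category.comp_id, hA]) (by rw [Category.comp_id, hB]) ⁻¹'
        Set.range (pullback.diagonal p)) →
      ∃ t ⊆ (Set.range (pullback.diagonal p))ᶜ, IsOpen t ∧ z ∈ t by
    rcases pushout_jointly_surjective g₁ g₂ (pullback.fst p p z) with ⟨a, ha⟩ | ⟨a, ha⟩ <;>
      rcases pushout_jointly_surjective g₁ g₂ (pullback.snd p p z) with ⟨b, hb⟩ | ⟨b, hb⟩
    · refine this _ _ _ _ hi₁ hi₁ ⟨a, ha⟩ ⟨b, hb⟩ ?_
      rw [preimage_range_diagonal p _ _ _ _ hi₁ hi₁ (𝟙 _) (𝟙 _) rfl rfl fun x y _ => ⟨x, rfl⟩]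
      exact (pullback.diagonal p₁).isClosedEmbedding.isClosed_range
    · refine this _ _ _ _ hi₁ hi₂ ⟨a, ha⟩ ⟨b, hb⟩ ?_
      rw [preimage_range_diagonal p _ _ _ _ hi₁ hi₂ g₁ g₂ hw pushout.condition fun x y h => by
        obtain ⟨w, h1, -⟩ := (inl_eq_inr_iff g₁ g₂).1 h
        exact ⟨w, h1⟩]
      exact hc
    · refine this _ _ _ _ hi₂ hi₁ ⟨a, ha⟩ ⟨b, hb⟩ ?_
      rw [preimage_range_diagonal p _ _ _ _ hi₂ hi₁ g₂ g₁ hw.symm pushout.condition.symm fun x y h => by
        obtain ⟨w, -, h2⟩ := (inl_eq_inr_iff g₁ g₂).1 h.symm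
        exact ⟨w, h2⟩]
      have : pullback.lift g₂ g₁ hw.symm = pullback.lift g₁ g₂ hw ≫ (pullbackSymmetry p₁ p₂).hom := by
        apply pullback.hom_ext
        · rw [pullback.lift_fst, Category.assoc, pullbackSymmetry_hom_comp_fst, pullback.lift_snd]
        · rw [pullback.lift_snd, Category.assoc, pullbackSymmetry_hom_comp_snd, pullback.lift_fst]
      rw [this, Scheme.Hom.comp_base, TopCat.coe_comp, Set.range_comp]
      exact (Scheme.homeoOfIso (pullbackSymmetry p₁ p₂)).isClosedMap _ hc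
    · refine this _ _ _ _ hi₂ hi₂ ⟨a, ha⟩ ⟨b, hb⟩ ?_
      rw [preimage_range_diagonal p _ _ _ _ hi₂ hi₂ (𝟙 _) (𝟙 _) rfl rfl fun x y _ => ⟨x, rfl⟩]
      exact (pullback.diagonal p₂).isClosedEmbedding.isClosed_range
  intro A B a b qA qB _ _ hA hB ha hb hclosed
  let m := pullback.map qA qB p p a b (𝟙 S) (by rw [Category.comp_id, hA]) (by rw [Category.comp_id, hB])
  have hzm : z ∈ Set.range m := by
    rw [Scheme.Pullback.range_map]
    exact ⟨ha, hb⟩
  obtain ⟨q, rfl⟩ := hzm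
  refine ⟨m '' (m ⁻¹' Set.range (pullback.diagonal p))ᶜ, ?_, m.isOpenEmbedding.isOpenMap _ hclosed.isOpen_compl, ⟨q, hz, rfl⟩⟩
  rintro _ ⟨r, hr, rfl⟩
  exact hr

end Groth.Agent.H48.LocImm
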