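import Groth.Agent.H48.LocImm.SpreadAlg
import Groth.Agent.H48.LocImm.Property
import Groth.Prelude.Def_EssFT
import Mathlib.AlgebraicGeometry.Noetherian

/-! An essentially finite type morphism is localizing near a point where the stalk map is an iso. -/

set_option autoImplicit false
universe u

open CategoryTheory AlgebraicGeometry TopologicalSpace

namespace Groth.Agent.H48.LocImm

open _root_.LocImm

theorem exists_localizing_nhd {X Y : Scheme.{u}} [IsLocallyNoetherian Y] (g : X ⟶ Y)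
    [EssFT.LocallyEssFiniteType g] (y : X) [IsIso (g.stalkMap y)] :
    ∃ N : X.Opens, y ∈ N ∧ IsLocalizing (N.ι ≫ g) := by
  obtain ⟨U, V, hyV, e, hft⟩ := EssFT.LocallyEssFiniteType.exists_appLE_essFiniteType (f := g) y
  have : IsNoetherianRing Γ(Y, U.1) := IsLocallyNoetherian.component_noetherian U
  have hyU : g y ∈ U.1 := e hyV
  let : Algebra Γ(Y, U.1) Γ(X, V.1) := (g.appLE U.1 V.1 e).hom.toAlgebra
  have : Algebra.EssFiniteType Γ(Y, U.1) Γ(X, V.1) := hft
  let algB := X.presheaf.algebra_section_stalk ⟨y, hyV⟩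
  let algA' := Y.presheaf.algebra_section_stalk ⟨g y, hyU⟩
  have hlocB := V.2.isLocalization_stalk ⟨y, hyV⟩
  have hlocA := U.2.isLocalization_stalk ⟨g y, hyU⟩
  let algA : Algebra Γ(Y, U.1) (X.presheaf.stalk y) :=
    ((algebraMap Γ(X, V.1) (X.presheaf.stalk y)).comp (algebraMap Γ(Y, U.1) Γ(X, V.1))).toAlgebra
  have : IsScalarTower Γ(Y, U.1) Γ(X, V.1) (X.presheaf.stalk y) := IsScalarTower.of_algebraMap_eq' rfl
  have hcomm : ∀ a : Γ(Y, U.1), (g.stalkMap y) (algebraMap Γ(Y, U.1) (Y.presheaf.stalk (g y)) a) =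
      algebraMap Γ(Y, U.1) (X.presheaf.stalk y) a := by
    intro a
    change (g.stalkMap y) (Y.presheaf.germ U.1 (g y) hyU a) = X.presheaf.germ V.1 y hyV (g.appLE U.1 V.1 e a)
    rw [Scheme.Hom.germ_stalkMap_apply, Scheme.Hom.appLE, CommRingCat.comp_apply, TopCat.Presheaf.germ_res_apply]
  let ψ : Y.presheaf.stalk (g y) ≃ₐ[Γ(Y, U.1)] X.presheaf.stalk y :=
    AlgEquiv.ofRingEquiv (f := (asIso (g.stalkMap y)).commRingCatIsoToRingEquiv) hcomm
  have hp : (U.2.primeIdealOf ⟨g y, hyU⟩).asIdeal.primeCompl =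
      ((V.2.primeIdealOf ⟨y, hyV⟩).asIdeal.comap (algebraMap Γ(Y, U.1) Γ(X, V.1))).primeCompl := by
    ext a
    change a ∉ (U.2.primeIdealOf ⟨g y, hyU⟩).asIdeal ↔
      algebraMap Γ(Y, U.1) Γ(X, V.1) a ∉ (V.2.primeIdealOf ⟨y, hyV⟩).asIdeal
    refine Iff.trans (IsLocalization.AtPrime.isUnit_to_map_iff (Y.presheaf.stalk (g y)) (U.2.primeIdealOf ⟨g y, hyU⟩).asIdeal a).symm
      (Iff.trans ?_ (IsLocalization.AtPrime.isUnit_to_map_iff (X.presheaf.stalk y) (V.2.primeIdealOf ⟨y, hyV⟩).asIdeal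
        (algebraMap Γ(Y, U.1) Γ(X, V.1) a)))
    rw [← IsScalarTower.algebraMap_apply, ← ψ.commutes]
    exact (MulEquiv.isUnit_map ψ).symm
  have : IsLocalization.AtPrime (X.presheaf.stalk y)
      ((V.2.primeIdealOf ⟨y, hyV⟩).asIdeal.comap (algebraMap Γ(Y, U.1) Γ(X, V.1))) := by
    unfold IsLocalization.AtPrime
    rw [← hp]
    exact IsLocalization.isLocalization_of_algEquiv _ ψ
  have (b : Γ(X, V.1)) : IsLocalization.Away b Γ(X, X.basicOpen b) := V.2.isLocalization_basicOpen b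
  obtain ⟨b, hb, hloc⟩ := exists_isLocHom_away (A := Γ(Y, U.1)) (L := X.presheaf.stalk y)
    (V.2.primeIdealOf ⟨y, hyV⟩).asIdeal (fun b => Γ(X, X.basicOpen b))
  have hyb : y ∈ X.basicOpen b := by
    rw [X.mem_basicOpen b y hyV]
    exact (IsLocalization.AtPrime.isUnit_to_map_iff (X.presheaf.stalk y) (V.2.primeIdealOf ⟨y, hyV⟩).asIdeal b).2 hb
  have hloc' : IsLocHom (g.appLE U.1 (X.basicOpen b) ((X.basicOpen_le b).trans e)).hom := by
    rw [← Scheme.Hom.appLE_map g e (homOfLE (X.basicOpen_le b)).op, CommRingCat.hom_comp]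
    exact hloc
  refine ⟨X.basicOpen b, hyb, fun z => ?_⟩
  obtain ⟨z, hz⟩ := z
  let W : (X.basicOpen b : Scheme.{u}).Opens := ⊤
  have hW : IsAffineOpen W := by
    have : IsAffine (X.basicOpen b : Scheme.{u}) := V.2.basicOpen b
    exact isAffineOpen_top _
  refine ⟨U, ⟨W, hW⟩, trivial, fun w _ => e (X.basicOpen_le b w.2), ?_⟩
  have heq : ((X.basicOpen b).ι ≫ g).appLE U.1 W (fun w _ => e (X.basicOpen_le b w.2)) =
      g.appLE U.1 (X.basicOpen b) ((X.basicOpen_le b).trans e) ≫ (X.basicOpen b).topIso.inv := by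
    rw [← Scheme.Hom.appLE_comp_appLE (X.basicOpen b).ι g U.1 (X.basicOpen b) W ((X.basicOpen_le b).trans e)
      (fun w _ => w.2)]
    congr 1
    erw [Scheme.Opens.ι_appLE, Scheme.Opens.topIso_inv]
    rfl
  rw [heq, CommRingCat.hom_comp]
  exact isLocHom_comp hloc' (isLocHom_of_bijective (ConcreteCategory.bijective_of_isIso (X.basicOpen b).topIso.inv))

end Groth.Agent.H48.LocImm
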