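import Groth.Agent.H48.LocImm.Hom
import Mathlib.RingTheory.EssentialFiniteness
import Mathlib.RingTheory.Localization.AtPrime.Basic
import Mathlib.RingTheory.Localization.Away.Basic
import Mathlib.RingTheory.Noetherian.Basic

/-! Spreading out a local isomorphism of an essentially finite type algebra. -/

set_option autoImplicit false
universe u

namespace Groth.Agent.H48.LocImm

open _root_.LocImm

/-- If `A_p → B_q` is bijective (here: `φ` localizes onto `B_q`) for an essentially finite type map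
over a Noetherian ring, then some `B_b`, `b ∉ q`, is a localization of `A`. -/
theorem exists_isLocHom_away {A B L : Type u} [CommRing A] [IsNoetherianRing A] [CommRing B] [CommRing L]
    [Algebra A B] [Algebra.EssFiniteType A B] (q : Ideal B) [q.IsPrime] [Algebra B L]
    [IsLocalization.AtPrime L q] [Algebra A L] [IsScalarTower A B L]
    [IsLocalization.AtPrime L (q.comap (algebraMap A B))]
    (Bb : B → Type u) [∀ b, CommRing (Bb b)] [∀ b, Algebra B (Bb b)] [∀ b, IsLocalization.Away b (Bb b)] :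
    ∃ b ∉ q, IsLocHom ((algebraMap B (Bb b)).comp (algebraMap A B)) := by
  classical
  set p := q.comap (algebraMap A B)
  have hL : ∀ z : B, ∃ a s : A, s ∉ p ∧ ∃ c : B, c ∉ q ∧ c * (z * algebraMap A B s) = c * algebraMap A B a := by
    intro z
    obtain ⟨⟨a, s⟩, h⟩ := IsLocalization.surj p.primeCompl (algebraMap B L z)
    rw [IsScalarTower.algebraMap_apply A B L, IsScalarTower.algebraMap_apply A B L, ← map_mul] at h
    obtain ⟨c, hc⟩ := IsLocalization.exists_of_eq (M := q.primeCompl) h
    exact ⟨a, s, s.2, c, c.2, hc⟩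
  choose a s hs c hc heq using hL
  obtain ⟨gens, hgens⟩ := (inferInstance : IsNoetherian A A).noetherian (RingHom.ker (algebraMap A L))
  have hker : ∀ x ∈ gens, ∃ t : p.primeCompl, (t : A) * x = 0 := by
    intro x hx
    refine (IsLocalization.map_eq_zero_iff p.primeCompl L x).1 ?_
    have : x ∈ RingHom.ker (algebraMap A L) := hgens ▸ Submodule.subset_span hx
    exact this
  choose! t ht using hker
  let S₀ := Algebra.EssFiniteType.finset A B
  let b : B := (∏ z ∈ S₀, c z * algebraMap A B (s z)) * ∏ x ∈ gens, algebraMap A B (t x : A)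
  have hb : b ∉ q := by
    refine Submonoid.mul_mem q.primeCompl (Submonoid.prod_mem _ fun z _ => ?_) (Submonoid.prod_mem _ fun x _ => ?_)
    · exact Submonoid.mul_mem q.primeCompl (hc z) (hs z)
    · exact (t x).2
  let ψ : A →+* Bb b := (algebraMap B (Bb b)).comp (algebraMap A B)
  have hu : ∀ d : B, d ∣ b → IsUnit (algebraMap B (Bb b) d) := fun d hd =>
    isUnit_of_dvd_unit (map_dvd _ hd) (IsLocalization.Away.algebraMap_isUnit b)
  let F : Subalgebra A B :=
    { carrier := {z | ∃ a' s', IsUnit (ψ s') ∧ algebraMap B (Bb b) z * ψ s' = ψ a'}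
      mul_mem' := by
        rintro x y ⟨a1, s1, h1, e1⟩ ⟨a2, s2, h2, e2⟩
        refine ⟨a1 * a2, s1 * s2, by rw [map_mul]; exact h1.mul h2, ?_⟩
        rw [map_mul, map_mul, map_mul, ← e1, ← e2]; ring
      add_mem' := by
        rintro x y ⟨a1, s1, h1, e1⟩ ⟨a2, s2, h2, e2⟩
        refine ⟨a1 * s2 + a2 * s1, s1 * s2, by rw [map_mul]; exact h1.mul h2, ?_⟩
        rw [map_add, map_mul, map_add, map_mul, map_mul, ← e1, ← e2]; ring
      algebraMap_mem' := fun r => ⟨r, 1, by simp, by simp [ψ]⟩ }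
  have hsub : Algebra.EssFiniteType.subalgebra A B ≤ F := by
    refine Algebra.adjoin_le fun z hz => ?_
    have hz' : c z * algebraMap A B (s z) ∣ b := (Finset.dvd_prod_of_mem _ hz).mul_right _
    refine ⟨a z, s z, hu _ ((dvd_mul_left _ _).trans hz'), ?_⟩
    apply (hu _ ((dvd_mul_right _ _).trans hz')).mul_left_cancel
    change _ = algebraMap B (Bb b) (c z) * algebraMap B (Bb b) (algebraMap A B (a z))
    rw [← map_mul, ← heq z, map_mul, map_mul]
    rfl
  have hfrac : ∀ z : B, z ∈ F := by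
    intro z
    obtain ⟨⟨w, v⟩, h⟩ := IsLocalization.surj (Algebra.EssFiniteType.submonoid A B) z
    obtain ⟨a1, s1, h1, e1⟩ := hsub w.2
    obtain ⟨a2, s2, h2, e2⟩ := hsub v.1.2
    have hv : IsUnit (algebraMap B (Bb b) (v.1 : B)) :=
      (IsLocalization.map_units B v).map (algebraMap B (Bb b))
    have ha2 : IsUnit (ψ a2) := e2 ▸ hv.mul h2
    refine ⟨a1 * s2, a2 * s1, by rw [map_mul]; exact ha2.mul h1, ?_⟩
    change z * (v.1 : B) = (w : B) at h
    rw [map_mul, map_mul, ← e1, ← e2, ← h, map_mul]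
    ring
  refine ⟨b, hb, (isLocHom_iff _).2 ⟨fun y => ?_, fun x y hxy => ?_⟩⟩
  · obtain ⟨⟨z, ⟨_, k, rfl⟩⟩, h⟩ := IsLocalization.surj (Submonoid.powers b) y
    obtain ⟨a1, s1, h1, e1⟩ := hfrac z
    obtain ⟨a2, s2, h2, e2⟩ := hfrac (b ^ k)
    have hbk : IsUnit (algebraMap B (Bb b) (b ^ k)) := by
      rw [map_pow]; exact (IsLocalization.Away.algebraMap_isUnit b).pow k
    have ha2 : IsUnit (ψ a2) := e2 ▸ hbk.mul h2
    refine ⟨a1 * s2, a2 * s1, by rw [map_mul]; exact ha2.mul h1, ?_⟩
    change y * algebraMap B (Bb b) (b ^ k) = algebraMap B (Bb b) z at h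
    change y * ψ (a2 * s1) = ψ (a1 * s2)
    rw [map_mul, map_mul, ← e1, ← e2, ← h]
    ring
  · have hmem : x - y ∈ RingHom.ker (algebraMap A L) := by
      have h0 : algebraMap B (Bb b) (algebraMap A B (x - y)) = 0 := by
        rw [map_sub, map_sub, sub_eq_zero]; exact hxy
      obtain ⟨⟨_, k, rfl⟩, hk⟩ := (IsLocalization.map_eq_zero_iff (Submonoid.powers b) _ _).1 h0
      rw [RingHom.mem_ker, IsScalarTower.algebraMap_apply A B L]
      exact (IsLocalization.map_eq_zero_iff q.primeCompl L _).2 ⟨⟨b ^ k, fun h => hb (Ideal.IsPrime.mem_of_pow_mem inferInstance k h)⟩, hk⟩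
    refine ⟨∏ x ∈ gens, (t x : A), ?_, sub_eq_zero.1 ?_⟩
    · rw [RingHom.comp_apply, map_prod (algebraMap A B)]
      exact hu _ (dvd_mul_left _ _)
    · rw [← mul_sub]
      have hle : RingHom.ker (algebraMap A L) ≤ LinearMap.ker (LinearMap.mulLeft A (∏ x ∈ gens, (t x : A))) := by
        rw [← hgens, Submodule.span_le]
        intro w hw
        rw [SetLike.mem_coe, LinearMap.mem_ker, LinearMap.mulLeft_apply, ← Finset.prod_erase_mul _ _ hw, mul_assoc,
          ht w hw, mul_zero]
      exact hle hmem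

end Groth.Agent.H48.LocImm
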