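import Groth.Agent.H48.LocImm.Property
import Groth.Agent.H48.LocImm.EssFT
import Mathlib.RingTheory.RingHom.EssFiniteType

/-! `Spec O_{X,x} ⟶ X` is a localizing immersion and essentially of finite type. -/

set_option autoImplicit false
universe u

open CategoryTheory AlgebraicGeometry

namespace Groth.Agent.H48.LocImm

open _root_.LocImm

instance locallyEssFiniteType_stableUnderComposition :
    MorphismProperty.IsStableUnderComposition (@EssFT.LocallyEssFiniteType : MorphismProperty Scheme.{u}) :=
  HasRingHomProperty.stableUnderComposition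
    (RingHom.locally_stableUnderComposition RingHom.EssFiniteType.respectsIso
      RingHom.EssFiniteType.isStableUnderBaseChange.localizationPreserves
      RingHom.EssFiniteType.stableUnderComposition)

theorem locallyEssFiniteType_comp {X Y Z : Scheme.{u}} (f : X ⟶ Y) (g : Y ⟶ Z) [EssFT.LocallyEssFiniteType f]
    [EssFT.LocallyEssFiniteType g] : EssFT.LocallyEssFiniteType (f ≫ g) :=
  MorphismProperty.comp_mem (W := @EssFT.LocallyEssFiniteType) f g inferInstance inferInstance

theorem locallyEssFiniteType_of_isLocalization {R S : CommRingCat.{u}} (φ : R ⟶ S) (h : φ.hom.EssFiniteType) :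
    EssFT.LocallyEssFiniteType (Spec.map φ) :=
  (HasRingHomProperty.Spec_iff (P := @EssFT.LocallyEssFiniteType)).2
    (RingHom.locally_of RingHom.EssFiniteType.respectsIso _ h)

theorem fromSpecStalk_props (X : Scheme.{u}) (x : X) :
    IsLocImmersion (X.fromSpecStalk x) ∧ EssFT.LocallyEssFiniteType (X.fromSpecStalk x) := by
  obtain ⟨U, hU, hxU, -⟩ := exists_isAffineOpen_mem_and_subset (show x ∈ (⊤ : X.Opens) from trivial)
  rw [← hU.fromSpecStalk_eq_fromSpecStalk hxU, IsAffineOpen.fromSpecStalk]
  have := hU.isOpenImmersion_fromSpec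
  let := (X.presheaf.germ U x hxU).hom.toAlgebra
  have hl : IsLocalization.AtPrime (X.presheaf.stalk x) (hU.primeIdealOf ⟨x, hxU⟩).asIdeal :=
    hU.isLocalization_stalk ⟨x, hxU⟩
  have hφ : IsLocHom (X.presheaf.germ U x hxU).hom :=
    isLocHom_algebraMap (hU.primeIdealOf ⟨x, hxU⟩).asIdeal.primeCompl
  constructor
  · exact isLocImmersion_comp ⟨(HasRingHomProperty.Spec_iff (P := localizingProp)).2
      (RingHom.locally_of isLocHom_respectsIso _ hφ), comap_injective_of_isLocHom hφ⟩
      (isLocImmersion_of_isOpenImmersion _)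
  · have : EssFT.LocallyEssFiniteType (Spec.map (X.presheaf.germ U x hxU)) :=
      locallyEssFiniteType_of_isLocalization _
        (RingHom.essFiniteType_algebraMap.2 (Algebra.EssFiniteType.of_isLocalization _ (hU.primeIdealOf ⟨x, hxU⟩).asIdeal.primeCompl))
    have := locallyEssFiniteType_of_locallyOfFiniteType hU.fromSpec
    exact locallyEssFiniteType_comp _ _

theorem isLocImmersion_fromSpecStalk (X : Scheme.{u}) (x : X) : IsLocImmersion (X.fromSpecStalk x) :=
  (fromSpecStalk_props X x).1

instance isNoetherian_spec_stalk (X : Scheme.{u}) [IsLocallyNoetherian X] (x : X) :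
    IsNoetherian (Spec (X.presheaf.stalk x)) := inferInstance

theorem essFiniteType_fromSpecStalk_comp {X Y : Scheme.{u}} [IsNoetherian X] (f : X ⟶ Y) [EssFT.EssFiniteType f]
    (x : X) : EssFT.EssFiniteType (X.fromSpecStalk x ≫ f) := by
  have := (fromSpecStalk_props X x).2
  have : EssFT.LocallyEssFiniteType (X.fromSpecStalk x ≫ f) := locallyEssFiniteType_comp _ _
  exact { ‹EssFT.LocallyEssFiniteType (X.fromSpecStalk x ≫ f)› with }

end Groth.Agent.H48.LocImm
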