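import Groth.Agent.H48.LocImm.Common
import Groth.Agent.H48.LocImm.Pushout

/-! Gluing factorizations on two open pieces. -/

set_option autoImplicit false
universe u

open CategoryTheory AlgebraicGeometry TopologicalSpace Limits

namespace Groth.Agent.H48.LocImm

open _root_.LocImm

theorem isLocImmersion_pullback_map {A B A' B' S : Scheme.{u}} (qA : A ⟶ S) (qB : B ⟶ S) (pA : A' ⟶ S)
    (pB : B' ⟶ S) (k : A ⟶ A') (l : B ⟶ B') (hk : IsLocImmersion k) (hl : IsLocImmersion l)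
    (hA : k ≫ pA = qA) (hB : l ≫ pB = qB) :
    IsLocImmersion (pullback.map qA qB pA pB k l (𝟙 S) (by rw [Category.comp_id, hA]) (by rw [Category.comp_id, hB])) := by
  subst hA hB
  have := mono_of_isLocImmersion hk
  have := mono_of_isLocImmersion hl
  have : localizingProp.{u}.IsStableUnderComposition :=
    ⟨fun f g hf hg => isLocalizing_comp hf hg⟩
  have : Mono (pullback.map (k ≫ pA) (l ≫ pB) pA pB k l (𝟙 S) (Category.comp_id _) (Category.comp_id _)) := by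
    refine ⟨fun g h e => pullback.hom_ext ((cancel_mono k).1 ?_) ((cancel_mono l).1 ?_)⟩
    · have := congrArg (· ≫ pullback.fst pA pB) e
      simpa only [Category.assoc, pullback.lift_fst] using this
    · have := congrArg (· ≫ pullback.snd pA pB) e
      simpa only [Category.assoc, pullback.lift_snd] using this
  exact isLocImmersion_of_mono (MorphismProperty.pullbackMap (P := localizingProp) hk.1 hl.1 rfl rfl)

theorem exists_specializes_of_mem_closure_range {A B : Scheme.{u}} [IsNoetherian A] (g : A ⟶ B) {b : B}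
    (hb : b ∈ closure (Set.range g)) : ∃ a, g a ⤳ b := by
  obtain ⟨T, hTf, hTc, hTi, hTC⟩ :=
    NoetherianSpace.exists_finite_set_isClosed_irreducible (isClosed_univ (X := A))
  choose η hη using fun t : T => QuasiSober.sober (hTi t.1 t.2) (hTc t.1 t.2)
  have : Finite T := hTf.to_subtype
  have hcl : closure (Set.range g) ⊆ ⋃ t : T, closure ({g (η t)} : Set B) := by
    refine closure_minimal ?_ (isClosed_iUnion_of_finite fun _ => isClosed_closure)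
    rintro _ ⟨a, rfl⟩
    obtain ⟨t, ht, hat⟩ := Set.mem_sUnion.1 (hTC ▸ Set.mem_univ a)
    exact Set.mem_iUnion.2 ⟨⟨t, ht⟩, (((hη ⟨t, ht⟩).specializes hat).map g.continuous).mem_closure⟩
  obtain ⟨t, ht⟩ := Set.mem_iUnion.1 (hcl hb)
  exact ⟨η t, specializes_iff_mem_closure.2 ht⟩

theorem exists_glue {X Y : Scheme.{u}} (U₁ U₂ : X.Opens) (hU : U₁ ⊔ U₂ = ⊤) (a : (U₁ : Scheme.{u}) ⟶ Y)
    (b : (U₂ : Scheme.{u}) ⟶ Y) (hab : X.homOfLE (inf_le_left : U₁ ⊓ U₂ ≤ U₁) ≫ a = X.homOfLE inf_le_right ≫ b) :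
    ∃ k : X ⟶ Y, U₁.ι ≫ k = a ∧ U₂.ι ≫ k = b := by
  let 𝒰 : X.OpenCover := X.openCoverOfIsOpenCover (fun i : ULift.{u} Bool => cond i.down U₁ U₂)
    (eq_top_iff.2 (hU.ge.trans (sup_le (le_iSup_of_le ⟨true⟩ le_rfl) (le_iSup_of_le ⟨false⟩ le_rfl))))
  let φ : ∀ i, 𝒰.X i ⟶ Y := fun ⟨i⟩ => match i with
    | true => a
    | false => b
  have cross : pullback.fst U₁.ι U₂.ι ≫ a = pullback.snd U₁.ι U₂.ι ≫ b := by
    have hr : Set.range (pullback.fst U₁.ι U₂.ι ≫ U₁.ι) ⊆ Set.range (U₁ ⊓ U₂).ι := by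
      rw [Scheme.Pullback.range_fst_comp, Scheme.Opens.range_ι, Scheme.Opens.range_ι, Scheme.Opens.range_ι]
      exact fun z hz => hz
    have h1 : pullback.fst U₁.ι U₂.ι = IsOpenImmersion.lift _ _ hr ≫ X.homOfLE inf_le_left := by
      rw [← cancel_mono U₁.ι, Category.assoc, Scheme.homOfLE_ι, IsOpenImmersion.lift_fac]
    have h2 : pullback.snd U₁.ι U₂.ι = IsOpenImmersion.lift _ _ hr ≫ X.homOfLE inf_le_right := by
      rw [← cancel_mono U₂.ι, Category.assoc, Scheme.homOfLE_ι, IsOpenImmersion.lift_fac, pullback.condition]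
    rw [h1, h2, Category.assoc, Category.assoc, hab]
  have hsame : ∀ (U : X.Opens) (c : (U : Scheme.{u}) ⟶ Y), pullback.fst U.ι U.ι ≫ c = pullback.snd U.ι U.ι ≫ c :=
    fun U c => by rw [(cancel_mono U.ι).1 pullback.condition]
  refine ⟨𝒰.glueMorphisms φ ?_, Scheme.Cover.ι_glueMorphisms 𝒰 φ _ ⟨true⟩, Scheme.Cover.ι_glueMorphisms 𝒰 φ _ ⟨false⟩⟩
  rintro ⟨_ | _⟩ ⟨_ | _⟩
  · exact hsame U₂ b
  · have := congrArg ((pullbackSymmetry U₂.ι U₁.ι).hom ≫ ·) cross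
    simp only [pullbackSymmetry_hom_comp_fst_assoc, pullbackSymmetry_hom_comp_snd_assoc] at this
    exact this.symm
  · exact cross
  · exact hsame U₁ a

theorem lft_desc {W Y₁ Y₂ S : Scheme.{u}} (g₁ : W ⟶ Y₁) (g₂ : W ⟶ Y₂) [IsOpenImmersion g₁] [IsOpenImmersion g₂]
    (q₁ : Y₁ ⟶ S) (q₂ : Y₂ ⟶ S) [LocallyOfFiniteType q₁] [LocallyOfFiniteType q₂] (hw : g₁ ≫ q₁ = g₂ ≫ q₂) :
    LocallyOfFiniteType (pushout.desc q₁ q₂ hw) := by
  have : IsZariskiLocalAtSource (@LocallyOfFiniteType : MorphismProperty Scheme.{u}) :=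
    HasRingHomProperty.instIsZariskiLocalAtSource (Q := RingHom.FiniteType)
  refine (IsZariskiLocalAtSource.iff_of_iSup_eq_top (P := (@LocallyOfFiniteType : MorphismProperty Scheme.{u}))
    (fun i : ULift.{u} Bool => cond i.down (pushout.inl g₁ g₂).opensRange (pushout.inr g₁ g₂).opensRange)
    (eq_top_iff.2 ((sup_opensRange g₁ g₂).ge.trans (sup_le (le_iSup_of_le ⟨true⟩ le_rfl) (le_iSup_of_le ⟨false⟩ le_rfl))))).2 ?_
  rintro ⟨_ | _⟩
  · change LocallyOfFiniteType ((pushout.inr g₁ g₂).opensRange.ι ≫ pushout.desc q₁ q₂ hw)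
    rw [← Scheme.Hom.isoOpensRange_inv_comp (pushout.inr g₁ g₂), Category.assoc, pushout.inr_desc]
    infer_instance
  · change LocallyOfFiniteType ((pushout.inl g₁ g₂).opensRange.ι ≫ pushout.desc q₁ q₂ hw)
    rw [← Scheme.Hom.isoOpensRange_inv_comp (pushout.inl g₁ g₂), Category.assoc, pushout.inl_desc]
    infer_instance

/-- Points of a Noetherian space lying in the closed set `C` can be avoided. -/
theorem exists_shrink {P Y₁ Y₂ : Scheme.{u}} [IsNoetherian P] (a : P ⟶ Y₁) (b : P ⟶ Y₂) {C : Set P}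
    (hC : IsClosed C) {R₁ : Set Y₁} {R₂ : Set Y₂} (h₁ : StableUnderGeneralization R₁)
    (h₂ : StableUnderGeneralization R₂) (h : ∀ z ∈ C, a z ∈ R₁ → b z ∉ R₂) :
    ∃ (O₁ : Y₁.Opens) (O₂ : Y₂.Opens), R₁ ⊆ O₁ ∧ R₂ ⊆ O₂ ∧ ∀ z ∈ C, a z ∈ O₁ → b z ∉ O₂ := by
  classical
  obtain ⟨T, hTf, hTc, hTi, hTC⟩ := NoetherianSpace.exists_finite_set_isClosed_irreducible hC
  choose η hη using fun t : T => QuasiSober.sober (hTi t.1 t.2) (hTc t.1 t.2)
  have : Finite T := hTf.to_subtype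
  have hc₁ : IsClosed (⋃ t : {t : T // a (η t) ∉ R₁}, closure ({a (η t.1)} : Set Y₁)) :=
    isClosed_iUnion_of_finite fun _ => isClosed_closure
  have hc₂ : IsClosed (⋃ t : {t : T // b (η t) ∉ R₂}, closure ({b (η t.1)} : Set Y₂)) :=
    isClosed_iUnion_of_finite fun _ => isClosed_closure
  refine ⟨⟨_, hc₁.isOpen_compl⟩, ⟨_, hc₂.isOpen_compl⟩, fun y hy hmem => ?_, fun y hy hmem => ?_, fun z hz ha hb => ?_⟩
  · obtain ⟨⟨t, ht⟩, hyt⟩ := Set.mem_iUnion.1 hmem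
    exact ht (h₁ (specializes_iff_mem_closure.2 hyt) hy)
  · obtain ⟨⟨t, ht⟩, hyt⟩ := Set.mem_iUnion.1 hmem
    exact ht (h₂ (specializes_iff_mem_closure.2 hyt) hy)
  · rw [hTC] at hz
    obtain ⟨t, ht, hzt⟩ := Set.mem_sUnion.1 hz
    have hs : η ⟨t, ht⟩ ⤳ z := (hη ⟨t, ht⟩).specializes hzt
    have hmem : η ⟨t, ht⟩ ∈ C := hTC ▸ Set.mem_sUnion.2 ⟨t, ht, (hη ⟨t, ht⟩).mem⟩
    by_cases h1 : a (η ⟨t, ht⟩) ∈ R₁
    · exact hb (Set.mem_iUnion.2 ⟨⟨⟨t, ht⟩, h _ hmem h1⟩, (hs.map b.continuous).mem_closure⟩)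
    · exact ha (Set.mem_iUnion.2 ⟨⟨⟨t, ht⟩, h1⟩, (hs.map a.continuous).mem_closure⟩)

theorem exists_factorization_of_two {X S : Scheme.{u}} [IsNoetherian X] [IsNoetherian S] (f : X ⟶ S)
    [IsSeparated f] (U₁ U₂ : X.Opens) (hU : U₁ ⊔ U₂ = ⊤) (Y₁ Y₂ : Scheme.{u}) [IsNoetherian Y₁]
    [IsNoetherian Y₂] (k₁ : (U₁ : Scheme.{u}) ⟶ Y₁) (k₂ : (U₂ : Scheme.{u}) ⟶ Y₂) (p₁ : Y₁ ⟶ S) (p₂ : Y₂ ⟶ S)
    (hk₁ : IsLocImmersion k₁) (hk₂ : IsLocImmersion k₂) [IsSeparated p₁] [IsSeparated p₂]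
    [LocallyOfFiniteType p₁] [LocallyOfFiniteType p₂]
    (h₁ : k₁ ≫ p₁ = U₁.ι ≫ f) (h₂ : k₂ ≫ p₂ = U₂.ι ≫ f) :
    ∃ (Y : Scheme.{u}) (k : X ⟶ Y) (p : Y ⟶ S), IsNoetherian Y ∧ IsLocImmersion k ∧ IsSeparated p ∧
      LocallyOfFiniteType p ∧ QuasiCompact p ∧ k ≫ p = f := by
  have : IsNoetherian (U₁ : Scheme.{u}) := isNoetherian_of_finiteType U₁.ι
  have : IsNoetherian (U₂ : Scheme.{u}) := isNoetherian_of_finiteType U₂.ι
  have : IsNoetherian ((U₁ ⊓ U₂ : X.Opens) : Scheme.{u}) := isNoetherian_of_finiteType (U₁ ⊓ U₂).ι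
  let j₁ : ((U₁ ⊓ U₂ : X.Opens) : Scheme.{u}) ⟶ U₁ := X.homOfLE inf_le_left
  let j₂ : ((U₁ ⊓ U₂ : X.Opens) : Scheme.{u}) ⟶ U₂ := X.homOfLE inf_le_right
  have hj₁ : j₁ ≫ U₁.ι = (U₁ ⊓ U₂).ι := X.homOfLE_ι _
  have hj₂ : j₂ ≫ U₂.ι = (U₁ ⊓ U₂).ι := X.homOfLE_ι _
  have hcomm : (j₁ ≫ k₁) ≫ p₁ = (j₂ ≫ k₂) ≫ p₂ := by
    rw [Category.assoc, Category.assoc, h₁, h₂, ← Category.assoc, ← Category.assoc, hj₁, hj₂]
  obtain ⟨W₀, k₀, g₁₀, g₂₀, hk₀, hg₁₀, hg₂₀, hg₀, e₁₀, e₂₀⟩ := exists_common (j₁ ≫ k₁) (j₂ ≫ k₂) p₁ p₂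
    (isLocImmersion_comp (isLocImmersion_of_isOpenImmersion j₁) hk₁)
    (isLocImmersion_comp (isLocImmersion_of_isOpenImmersion j₂) hk₂) hcomm
  have : IsNoetherian W₀ := isNoetherian_of_finiteType g₁₀
  obtain ⟨O₁, hO₁⟩ := exists_preimage_eq hk₁ (U₁.ι ⁻¹ᵁ U₂)
  obtain ⟨O₂, hO₂⟩ := exists_preimage_eq hk₂ (U₂.ι ⁻¹ᵁ U₁)
  let P := pullback p₁ p₂
  have : IsNoetherian P := isNoetherian_of_finiteType (pullback.fst p₁ p₂)
  let W₁ : W₀.Opens := g₁₀ ⁻¹ᵁ O₁ ⊓ g₂₀ ⁻¹ᵁ O₂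
  have hk₀W : Set.range k₀ ⊆ (W₁ : Set W₀) := by
    rintro _ ⟨z, rfl⟩
    refine ⟨?_, ?_⟩
    · change g₁₀ (k₀ z) ∈ O₁
      rw [← Scheme.Hom.comp_apply, e₁₀, Scheme.Hom.comp_apply]
      refine hO₁.ge (show U₁.ι (j₁ z) ∈ U₂ from ?_)
      rw [← Scheme.Hom.comp_apply, hj₁]
      exact z.2.2
    · change g₂₀ (k₀ z) ∈ O₂
      rw [← Scheme.Hom.comp_apply, e₂₀, Scheme.Hom.comp_apply]
      refine hO₂.ge (show U₂.ι (j₂ z) ∈ U₁ from ?_)
      rw [← Scheme.Hom.comp_apply, hj₂]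
      exact z.2.1
  let ψ : (W₁ : Scheme.{u}) ⟶ P := pullback.lift (W₁.ι ≫ g₁₀) (W₁.ι ≫ g₂₀) (by rw [Category.assoc, Category.assoc, hg₀])
  have hψimm : IsImmersion ψ := by
    have : IsImmersion (ψ ≫ pullback.fst p₁ p₂) := by rw [pullback.lift_fst]; infer_instance
    exact IsImmersion.of_comp ψ (pullback.fst p₁ p₂)
  have hC : IsClosed (closure (Set.range ψ) \ Set.range ψ) := by
    have hl : IsLocallyClosed (Set.range ψ) := hψimm.isLocallyClosed_range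
    have h2 := hl.isOpen_coborder.isClosed_compl
    rwa [coborder, compl_compl] at h2
  have hbad : ∀ b ∈ closure (Set.range ψ) \ Set.range ψ,
      pullback.fst p₁ p₂ b ∈ Set.range k₁ → pullback.snd p₁ p₂ b ∉ Set.range k₂ := by
    rintro b ⟨hb, hbn⟩ hb₁ hb₂
    let m := pullback.map (U₁.ι ≫ f) (U₂.ι ≫ f) p₁ p₂ k₁ k₂ (𝟙 S) (by rw [Category.comp_id, h₁]) (by rw [Category.comp_id, h₂])
    have hm : IsLocImmersion m := isLocImmersion_pullback_map _ _ _ _ k₁ k₂ hk₁ hk₂ h₁ h₂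
    obtain ⟨q, hq⟩ : b ∈ Set.range m := by rw [Scheme.Pullback.range_map]; exact ⟨hb₁, hb₂⟩
    obtain ⟨η, hη, hηb⟩ : ∃ η ∈ Set.range ψ, η ⤳ b := by
      have : IsNoetherian (W₁ : Scheme.{u}) := isNoetherian_of_finiteType W₁.ι
      obtain ⟨w, hw⟩ := exists_specializes_of_mem_closure_range ψ hb
      exact ⟨ψ w, ⟨w, rfl⟩, hw⟩
    obtain ⟨q', hq'q, hq'⟩ := generalizingMap_of_isLocalizing hm.1 (hq.symm ▸ hηb : η ⤳ m q)
    obtain ⟨w, hw⟩ := hη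
    let a₁ := pullback.fst (U₁.ι ≫ f) (U₂.ι ≫ f)
    let a₂ := pullback.snd (U₁.ι ≫ f) (U₂.ι ≫ f)
    have hm₁ : m ≫ pullback.fst p₁ p₂ = a₁ ≫ k₁ := pullback.lift_fst _ _ _
    have hm₂ : m ≫ pullback.snd p₁ p₂ = a₂ ≫ k₂ := pullback.lift_snd _ _ _
    let d : ((U₁ ⊓ U₂ : X.Opens) : Scheme.{u}) ⟶ pullback (U₁.ι ≫ f) (U₂.ι ≫ f) :=
      pullback.lift j₁ j₂ (by rw [← Category.assoc, hj₁, ← Category.assoc, hj₂])
    let k₀' := IsOpenImmersion.lift W₁.ι k₀ (by rw [Scheme.Opens.range_ι]; exact hk₀W)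
    have hd : d ≫ m = k₀' ≫ ψ := by
      apply pullback.hom_ext
      · rw [Category.assoc, hm₁, pullback.lift_fst_assoc, Category.assoc, pullback.lift_fst,
          IsOpenImmersion.lift_fac_assoc, e₁₀]
      · rw [Category.assoc, hm₂, pullback.lift_snd_assoc, Category.assoc, pullback.lift_snd,
          IsOpenImmersion.lift_fac_assoc, e₂₀]
    let c := pullback.map (U₁.ι ≫ f) (U₂.ι ≫ f) f f U₁.ι U₂.ι (𝟙 S) (Category.comp_id _) (Category.comp_id _)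
    have hc₁ : c ≫ pullback.fst f f = a₁ ≫ U₁.ι := pullback.lift_fst _ _ _
    have hc₂ : c ≫ pullback.snd f f = a₂ ≫ U₂.ι := pullback.lift_snd _ _ _
    have hdc : d ≫ c = (U₁ ⊓ U₂).ι ≫ pullback.diagonal f := by
      apply pullback.hom_ext
      · rw [Category.assoc, hc₁, pullback.lift_fst_assoc, hj₁, Category.assoc, pullback.diagonal_fst, Category.comp_id]
      · rw [Category.assoc, hc₂, pullback.lift_snd_assoc, hj₂, Category.assoc, pullback.diagonal_snd, Category.comp_id]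
    have hwO : g₁₀ (W₁.ι w) ∈ O₁ := w.2.1
    have hw₁ : g₁₀ (W₁.ι w) = k₁ (a₁ q') := by
      have h := congrArg (pullback.fst p₁ p₂) (hw.trans hq'.symm)
      rwa [← Scheme.Hom.comp_apply, ← Scheme.Hom.comp_apply, pullback.lift_fst, hm₁, Scheme.Hom.comp_apply, Scheme.Hom.comp_apply] at h
    have hu : U₁.ι (a₁ q') ∈ U₂ := hO₁.le (show k₁ (a₁ q') ∈ O₁ from hw₁ ▸ hwO)
    let u₀ : ↥((U₁ ⊓ U₂ : X.Opens) : Scheme.{u}) := ⟨U₁.ι (a₁ q'), (a₁ q').2, hu⟩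
    have hju : j₁ u₀ = a₁ q' := by
      apply U₁.ι.isOpenEmbedding.injective
      rw [← Scheme.Hom.comp_apply, hj₁]
      rfl
    have hwk : k₀' u₀ = w := by
      apply (W₁.ι ≫ g₁₀).isOpenEmbedding.injective
      rw [← Scheme.Hom.comp_apply, IsOpenImmersion.lift_fac_assoc, e₁₀, Scheme.Hom.comp_apply, hju, ← hw₁, Scheme.Hom.comp_apply]
    have hdu : d u₀ = q' := hm.2 (by
      change m (d u₀) = m q'
      rw [← Scheme.Hom.comp_apply, hd, Scheme.Hom.comp_apply, hwk, hw, hq'])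
    have hdiag : c q' ∈ Set.range (pullback.diagonal f) :=
      ⟨(U₁ ⊓ U₂).ι u₀, by rw [← hdu, ← Scheme.Hom.comp_apply, ← Scheme.Hom.comp_apply, hdc]⟩
    obtain ⟨x, hx⟩ := (hq'q.map c.continuous).mem_closed
      (pullback.diagonal f).isClosedEmbedding.isClosed_range hdiag
    have hx₁ : x = U₁.ι (a₁ q) := by
      have h := congrArg (pullback.fst f f) hx
      rwa [← Scheme.Hom.comp_apply, ← Scheme.Hom.comp_apply, pullback.diagonal_fst, hc₁, Scheme.Hom.comp_apply] at h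
    have hx₂ : x = U₂.ι (a₂ q) := by
      have h := congrArg (pullback.snd f f) hx
      rwa [← Scheme.Hom.comp_apply, ← Scheme.Hom.comp_apply, pullback.diagonal_snd, hc₂, Scheme.Hom.comp_apply] at h
    let u' : ↥((U₁ ⊓ U₂ : X.Opens) : Scheme.{u}) := ⟨x, hx₁ ▸ (a₁ q).2, hx₂ ▸ (a₂ q).2⟩
    have hdu' : d u' = q := c.isOpenEmbedding.injective (by
      rw [← Scheme.Hom.comp_apply, hdc, Scheme.Hom.comp_apply]
      exact hx)
    exact hbn ⟨k₀' u', by rw [← Scheme.Hom.comp_apply, ← hd, Scheme.Hom.comp_apply, hdu', hq]⟩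
  obtain ⟨N₁, N₂, hN₁, hN₂, hN⟩ := exists_shrink (pullback.fst p₁ p₂) (pullback.snd p₁ p₂) hC
    (stableUnderGeneralization_range hk₁.1) (stableUnderGeneralization_range hk₂.1) hbad
  let Wf : W₀.Opens := W₁ ⊓ g₁₀ ⁻¹ᵁ N₁ ⊓ g₂₀ ⁻¹ᵁ N₂
  have hk₀f : Set.range k₀ ⊆ (Wf : Set W₀) := by
    rintro _ ⟨z, rfl⟩
    refine ⟨⟨hk₀W ⟨z, rfl⟩, ?_⟩, ?_⟩
    · change g₁₀ (k₀ z) ∈ N₁
      rw [← Scheme.Hom.comp_apply, e₁₀, Scheme.Hom.comp_apply]
      exact hN₁ ⟨_, rfl⟩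
    · change g₂₀ (k₀ z) ∈ N₂
      rw [← Scheme.Hom.comp_apply, e₂₀, Scheme.Hom.comp_apply]
      exact hN₂ ⟨_, rfl⟩
  have hg₁r : Set.range (Wf.ι ≫ g₁₀) ⊆ Set.range N₁.ι := by
    rw [Scheme.Opens.range_ι]; rintro _ ⟨z, rfl⟩; exact z.2.1.2
  have hg₂r : Set.range (Wf.ι ≫ g₂₀) ⊆ Set.range N₂.ι := by
    rw [Scheme.Opens.range_ι]; rintro _ ⟨z, rfl⟩; exact z.2.2
  let g₁ := IsOpenImmersion.lift N₁.ι (Wf.ι ≫ g₁₀) hg₁r
  let g₂ := IsOpenImmersion.lift N₂.ι (Wf.ι ≫ g₂₀) hg₂r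
  have : IsOpenImmersion g₁ := by
    have : IsOpenImmersion (g₁ ≫ N₁.ι) := by rw [IsOpenImmersion.lift_fac]; infer_instance
    exact IsOpenImmersion.of_comp g₁ N₁.ι
  have : IsOpenImmersion g₂ := by
    have : IsOpenImmersion (g₂ ≫ N₂.ι) := by rw [IsOpenImmersion.lift_fac]; infer_instance
    exact IsOpenImmersion.of_comp g₂ N₂.ι
  let q₁ := N₁.ι ≫ p₁
  let q₂ := N₂.ι ≫ p₂
  have hw : g₁ ≫ q₁ = g₂ ≫ q₂ := by
    rw [IsOpenImmersion.lift_fac_assoc, IsOpenImmersion.lift_fac_assoc, Category.assoc, Category.assoc, hg₀]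
  have hclosed : IsClosed (Set.range (pullback.lift g₁ g₂ hw)) := by
    let μ := pullback.map q₁ q₂ p₁ p₂ N₁.ι N₂.ι (𝟙 S) (Category.comp_id _) (Category.comp_id _)
    have hμ₁ : μ ≫ pullback.fst p₁ p₂ = pullback.fst q₁ q₂ ≫ N₁.ι := pullback.lift_fst _ _ _
    have hμ₂ : μ ≫ pullback.snd p₁ p₂ = pullback.snd q₁ q₂ ≫ N₂.ι := pullback.lift_snd _ _ _
    have key : pullback.lift g₁ g₂ hw ≫ μ = W₀.homOfLE (inf_le_left.trans inf_le_left : Wf ≤ W₁) ≫ ψ := by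
      apply pullback.hom_ext
      · rw [Category.assoc, hμ₁, pullback.lift_fst_assoc, IsOpenImmersion.lift_fac, Category.assoc, pullback.lift_fst,
          ← Category.assoc, Scheme.homOfLE_ι]
      · rw [Category.assoc, hμ₂, pullback.lift_snd_assoc, IsOpenImmersion.lift_fac, Category.assoc, pullback.lift_snd,
          ← Category.assoc, Scheme.homOfLE_ι]
    suffices Set.range (pullback.lift g₁ g₂ hw) = μ ⁻¹' closure (Set.range ψ) by
      rw [this]; exact isClosed_closure.preimage μ.continuous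
    ext z
    constructor
    · rintro ⟨w, rfl⟩
      exact subset_closure ⟨W₀.homOfLE (inf_le_left.trans inf_le_left : Wf ≤ W₁) w,
        by rw [← Scheme.Hom.comp_apply, ← key, Scheme.Hom.comp_apply]⟩
    · intro hz
      have hz₁ : pullback.fst p₁ p₂ (μ z) ∈ N₁ := by
        rw [← Scheme.Hom.comp_apply, hμ₁]; exact (pullback.fst q₁ q₂ z).2
      have hz₂ : pullback.snd p₁ p₂ (μ z) ∈ N₂ := by
        rw [← Scheme.Hom.comp_apply, hμ₂]; exact (pullback.snd q₁ q₂ z).2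
      obtain ⟨w, hw'⟩ : μ z ∈ Set.range ψ := by
        by_contra hn; exact hN _ ⟨hz, hn⟩ hz₁ hz₂
      have hw₁ : W₁.ι w ∈ Wf := by
        refine ⟨⟨w.2, ?_⟩, ?_⟩
        · change g₁₀ (W₁.ι w) ∈ N₁
          rw [← Scheme.Hom.comp_apply, ← pullback.lift_fst (f := p₁) (g := p₂) (W₁.ι ≫ g₁₀) (W₁.ι ≫ g₂₀) (by rw [Category.assoc, Category.assoc, hg₀]), Scheme.Hom.comp_apply]
          exact hw'.symm ▸ hz₁
        · change g₂₀ (W₁.ι w) ∈ N₂
          rw [← Scheme.Hom.comp_apply, ← pullback.lift_snd (f := p₁) (g := p₂) (W₁.ι ≫ g₁₀) (W₁.ι ≫ g₂₀) (by rw [Category.assoc, Category.assoc, hg₀]), Scheme.Hom.comp_apply]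
          exact hw'.symm ▸ hz₂
      let wf : ↥(Wf : Scheme.{u}) := ⟨W₁.ι w, hw₁⟩
      refine ⟨wf, μ.isOpenEmbedding.injective ?_⟩
      rw [← Scheme.Hom.comp_apply, key, Scheme.Hom.comp_apply, ← hw']
      congr 1
      apply W₁.ι.isOpenEmbedding.injective
      rw [← Scheme.Hom.comp_apply, Scheme.homOfLE_ι]
      rfl
  have hsep := isSeparated_desc g₁ g₂ q₁ q₂ hw hclosed
  let p := pushout.desc q₁ q₂ hw
  have : IsNoetherian (N₁ : Scheme.{u}) := isNoetherian_of_finiteType N₁.ι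
  have : IsNoetherian (N₂ : Scheme.{u}) := isNoetherian_of_finiteType N₂.ι
  let a : (U₁ : Scheme.{u}) ⟶ pushout g₁ g₂ :=
    IsOpenImmersion.lift N₁.ι k₁ (by rw [Scheme.Opens.range_ι]; exact hN₁) ≫ pushout.inl g₁ g₂
  let b : (U₂ : Scheme.{u}) ⟶ pushout g₁ g₂ :=
    IsOpenImmersion.lift N₂.ι k₂ (by rw [Scheme.Opens.range_ι]; exact hN₂) ≫ pushout.inr g₁ g₂
  let kf := IsOpenImmersion.lift Wf.ι k₀ (by rw [Scheme.Opens.range_ι]; exact hk₀f)
  have hab : j₁ ≫ a = j₂ ≫ b := by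
    have ha' : j₁ ≫ IsOpenImmersion.lift N₁.ι k₁ (by rw [Scheme.Opens.range_ι]; exact hN₁) = kf ≫ g₁ := by
      rw [← cancel_mono N₁.ι, Category.assoc, Category.assoc, IsOpenImmersion.lift_fac,
        IsOpenImmersion.lift_fac, IsOpenImmersion.lift_fac_assoc, e₁₀]
    have hb' : j₂ ≫ IsOpenImmersion.lift N₂.ι k₂ (by rw [Scheme.Opens.range_ι]; exact hN₂) = kf ≫ g₂ := by
      rw [← cancel_mono N₂.ι, Category.assoc, Category.assoc, IsOpenImmersion.lift_fac,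
        IsOpenImmersion.lift_fac, IsOpenImmersion.lift_fac_assoc, e₂₀]
    rw [← Category.assoc, ha', ← Category.assoc, hb', Category.assoc, Category.assoc, pushout.condition]
  let 𝒰 : X.OpenCover := X.openCoverOfIsOpenCover (fun i : ULift.{u} Bool => cond i.down U₁ U₂)
    (eq_top_iff.2 (hU.ge.trans (sup_le (le_iSup_of_le ⟨true⟩ le_rfl) (le_iSup_of_le ⟨false⟩ le_rfl))))
  obtain ⟨k, hka, hkb⟩ : ∃ k : X ⟶ pushout g₁ g₂, U₁.ι ≫ k = a ∧ U₂.ι ≫ k = b := by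
    obtain ⟨k, hk⟩ := exists_glue U₁ U₂ hU a b hab
    exact ⟨k, hk⟩
  have hlft : LocallyOfFiniteType p := lft_desc g₁ g₂ q₁ q₂ hw
  have hNoe : IsNoetherian (pushout g₁ g₂) := by
    have : CompactSpace ↥(pushout g₁ g₂) := by
      refine ⟨?_⟩
      have : (Set.univ : Set ↥(pushout g₁ g₂)) = Set.range (pushout.inl g₁ g₂) ∪ Set.range (pushout.inr g₁ g₂) :=
        (Set.eq_univ_of_forall fun z => pushout_jointly_surjective g₁ g₂ z).symm
      rw [this]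
      exact (isCompact_range (pushout.inl g₁ g₂).continuous).union (isCompact_range (pushout.inr g₁ g₂).continuous)
    exact { LocallyOfFiniteType.isLocallyNoetherian p with toCompactSpace := this }
  refine ⟨pushout g₁ g₂, k, p, hNoe, ⟨?_, ?_⟩, hsep, hlft, inferInstance, ?_⟩
  · refine (isLocalizing_iff_openCover k 𝒰).2 fun i => ?_
    obtain ⟨(_ | _)⟩ := i
    · change IsLocalizing (U₂.ι ≫ k)
      rw [hkb]
      exact isLocalizing_comp (isLocImmersion_of_comp_openImmersion _ N₂.ι (by rw [IsOpenImmersion.lift_fac]; exact hk₂)).1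
        (isLocalizing_of_isOpenImmersion _)
    · change IsLocalizing (U₁.ι ≫ k)
      rw [hka]
      exact isLocalizing_comp (isLocImmersion_of_comp_openImmersion _ N₁.ι (by rw [IsOpenImmersion.lift_fac]; exact hk₁)).1
        (isLocalizing_of_isOpenImmersion _)
  · have hinl : ∀ x y : ↥(U₁ : Scheme.{u}), a x = a y → x = y := fun x y h => hk₁.2 (by
      have h' : (IsOpenImmersion.lift N₁.ι k₁ (by rw [Scheme.Opens.range_ι]; exact hN₁) ≫ N₁.ι) x =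
          (IsOpenImmersion.lift N₁.ι k₁ (by rw [Scheme.Opens.range_ι]; exact hN₁) ≫ N₁.ι) y :=
        congrArg N₁.ι ((pushout.inl g₁ g₂).isOpenEmbedding.injective h)
      rwa [IsOpenImmersion.lift_fac] at h')
    have hinr : ∀ x y : ↥(U₂ : Scheme.{u}), b x = b y → x = y := fun x y h => hk₂.2 (by
      have h' : (IsOpenImmersion.lift N₂.ι k₂ (by rw [Scheme.Opens.range_ι]; exact hN₂) ≫ N₂.ι) x =
          (IsOpenImmersion.lift N₂.ι k₂ (by rw [Scheme.Opens.range_ι]; exact hN₂) ≫ N₂.ι) y :=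
        congrArg N₂.ι ((pushout.inr g₁ g₂).isOpenEmbedding.injective h)
      rwa [IsOpenImmersion.lift_fac] at h')
    have hcross : ∀ (x : ↥(U₁ : Scheme.{u})) (y : ↥(U₂ : Scheme.{u})), a x = b y → x.1 = y.1 := by
      intro x y h
      obtain ⟨w, hw₁, -⟩ := (inl_eq_inr_iff g₁ g₂).1 h
      have hx : k₁ x ∈ O₁ := by
        have this : (g₁ ≫ N₁.ι) w = (IsOpenImmersion.lift N₁.ι k₁ (by rw [Scheme.Opens.range_ι]; exact hN₁) ≫ N₁.ι) x :=
          congrArg N₁.ι hw₁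
        rw [IsOpenImmersion.lift_fac, IsOpenImmersion.lift_fac, Scheme.Hom.comp_apply] at this
        rw [← this]
        exact w.2.1.1.1
      have hx' : x.1 ∈ U₂ := hO₁.le hx
      let x₂ : ↥(U₂ : Scheme.{u}) := ⟨x.1, hx'⟩
      have : b x₂ = b y := by
        rw [← h]
        let z : ↥((U₁ ⊓ U₂ : X.Opens) : Scheme.{u}) := ⟨x.1, x.2, hx'⟩
        have hz₁ : j₁ z = x := U₁.ι.isOpenEmbedding.injective (by rw [← Scheme.Hom.comp_apply, hj₁]; rfl)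
        have hz₂ : j₂ z = x₂ := U₂.ι.isOpenEmbedding.injective (by rw [← Scheme.Hom.comp_apply, hj₂]; rfl)
        rw [← hz₁, ← hz₂, ← Scheme.Hom.comp_apply, ← Scheme.Hom.comp_apply, hab]
      exact congrArg Subtype.val (hinr _ _ this)
    have ha : ∀ x : ↥(U₁ : Scheme.{u}), k x.1 = a x := fun x => by rw [← hka]; rfl
    have hb : ∀ x : ↥(U₂ : Scheme.{u}), k x.1 = b x := fun x => by rw [← hkb]; rfl
    intro x y hxy
    rcases (hU.ge (Opens.mem_top x) : x ∈ U₁ ⊔ U₂) with hx | hx <;>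
      rcases (hU.ge (Opens.mem_top y) : y ∈ U₁ ⊔ U₂) with hy | hy
    · exact congrArg Subtype.val (hinl ⟨x, hx⟩ ⟨y, hy⟩ ((ha ⟨x, hx⟩).symm.trans (hxy.trans (ha ⟨y, hy⟩))))
    · exact hcross ⟨x, hx⟩ ⟨y, hy⟩ ((ha ⟨x, hx⟩).symm.trans (hxy.trans (hb ⟨y, hy⟩)))
    · exact (hcross ⟨y, hy⟩ ⟨x, hx⟩ ((ha ⟨y, hy⟩).symm.trans (hxy.symm.trans (hb ⟨x, hx⟩)))).symm
    · exact congrArg Subtype.val (hinr ⟨x, hx⟩ ⟨y, hy⟩ ((hb ⟨x, hx⟩).symm.trans (hxy.trans (hb ⟨y, hy⟩))))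
  · refine 𝒰.hom_ext _ _ fun i => ?_
    obtain ⟨(_ | _)⟩ := i
    · change U₂.ι ≫ k ≫ p = U₂.ι ≫ f
      rw [← Category.assoc, hkb, Category.assoc, pushout.inr_desc, IsOpenImmersion.lift_fac_assoc, h₂]
    · change U₁.ι ≫ k ≫ p = U₁.ι ≫ f
      rw [← Category.assoc, hka, Category.assoc, pushout.inl_desc, IsOpenImmersion.lift_fac_assoc, h₁]

end Groth.Agent.H48.LocImm
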